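import Cfsg.Agent.Lib.Recog.SzIso.Group
import Cfsg.Prelude.Def_Exceptional

/-!
The Suzuki order determines the parameters of the strongly embedded structure.
-/

set_option autoImplicit false

namespace CfsgLib.Recog.SzIso

open CfsgLib.Recog.CIT (SEData)

theorem pow_two_mul_odd {a b x y : ℕ} (hx : Odd x) (hy : Odd y) (h : 2 ^ a * x = 2 ^ b * y) :
    a = b := by
  have h2x : ¬ 2 ∣ x := by rw [← even_iff_two_dvd]; exact Nat.not_even_iff_odd.2 hx
  have h2y : ¬ 2 ∣ y := by rw [← even_iff_two_dvd]; exact Nat.not_even_iff_odd.2 hy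
  rcases lt_trichotomy a b with hab | rfl | hab
  · exfalso
    obtain ⟨c, rfl⟩ := Nat.exists_eq_add_of_lt hab
    rw [pow_succ, pow_add, mul_assoc, mul_assoc] at h
    exact h2x ⟨2 ^ c * y, by rw [Nat.eq_of_mul_eq_mul_left (by positivity) h]; ring⟩
  · rfl
  · exfalso
    obtain ⟨c, rfl⟩ := Nat.exists_eq_add_of_lt hab
    rw [pow_succ, pow_add, mul_assoc, mul_assoc] at h
    exact h2y ⟨2 ^ c * x, by rw [← Nat.eq_of_mul_eq_mul_left (by positivity) h]; ring⟩

/-- With the Suzuki order, `|S| = q ^ 2` and `q` is an odd power of two. -/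
theorem card_eq_of_isSuzuki {G : Type*} [Group G] [Finite G] {S D : Subgroup G} {q : ℕ}
    (h : SEData G S D q) (hs : Cfsg.IsSuzuki G) :
    ∃ m, 1 ≤ m ∧ q = 2 ^ (2 * m + 1) ∧ Nat.card S = q ^ 2 := by
  obtain ⟨-, m, hm, hcard⟩ := hs
  haveI := Fact.mk Nat.prime_two
  obtain ⟨k, hk⟩ := IsPGroup.iff_card.1 h.isP
  obtain ⟨n, hn⟩ := h.isPow
  have h4 := h.four_le
  have hn1 : n ≠ 0 := by rintro rfl; rw [pow_zero] at hn; omega
  have hodd : ∀ j, j ≠ 0 → Odd (2 ^ j - 1) := fun j hj =>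
    Nat.Even.sub_odd Nat.one_le_two_pow ((Nat.even_pow).2 ⟨even_two, hj⟩) odd_one
  have hodd' : ∀ j, j ≠ 0 → Odd (2 ^ j + 1) := fun j hj =>
    ((Nat.even_pow).2 ⟨even_two, hj⟩).add_one
  have hk1 : k ≠ 0 := by
    rintro rfl
    have h1 : 0 < Nat.card {t : G // t ∈ S ∧ orderOf t = 2} := by rw [h.card_invol]; omega
    obtain ⟨⟨t, ht, hto⟩⟩ := (Nat.card_pos_iff.1 h1).1
    rw [pow_zero] at hk
    have : S = ⊥ := Subgroup.eq_bot_of_card_eq S hk
    rw [this, Subgroup.mem_bot] at ht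
    rw [ht, orderOf_one] at hto
    omega
  set s := 2 * m + 1 with hsdef
  have hcg := h.card_G
  rw [hcard, hk, hn, ← pow_mul] at hcg
  have he : s * 2 = k := by
    refine pow_two_mul_odd (x := (2 ^ (s * 2) + 1) * (2 ^ s - 1)) (y := (2 ^ k + 1) * (2 ^ n - 1))
      ((hodd' _ (by omega)).mul (hodd _ (by omega))) ((hodd' _ hk1).mul (hodd _ hn1)) ?_
    rw [← mul_assoc, ← mul_assoc, mul_comm (2 ^ k) (2 ^ k + 1)]
    exact hcg
  subst he
  have hpos : 0 < 2 ^ (s * 2) * (2 ^ (s * 2) + 1) := by positivity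
  rw [mul_comm (2 ^ (s * 2) + 1) (2 ^ (s * 2))] at hcg
  have hq := Nat.eq_of_mul_eq_mul_left hpos hcg
  have : n = s := Nat.pow_right_injective le_rfl (by
    have := Nat.one_le_two_pow (n := s)
    have := Nat.one_le_two_pow (n := n)
    omega : 2 ^ n = 2 ^ s)
  subst this
  exact ⟨m, hm, hn, by rw [hk, hn, ← pow_mul]⟩

end CfsgLib.Recog.SzIso

namespace CfsgLib.Recog.SzIso

open CfsgLib.Recog.CIT (SEData)

/-- The Suzuki order and the strongly embedded structure give the Suzuki group. -/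
theorem isoSuzuki_of_isSuzuki {G : Type*} [Group G] [Finite G] {S D : Subgroup G} {q : ℕ}
    (h : SEData G S D q) (hs : Cfsg.IsSuzuki G) : Cfsg.Lie.IsoSuzuki G := by
  obtain ⟨m, -, hq, hS⟩ := card_eq_of_isSuzuki h hs
  haveI := hs.1
  exact isoSuzuki_of_SEData h hS hq

end CfsgLib.Recog.SzIso
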