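import Mathlib

/-!
The `2`-group structure of type A on a plane over a field, its torus, and the relations satisfied by
the involution exchanging the two distinguished points of the projective completion.
-/

set_option autoImplicit false

namespace CfsgLib.Recog.SzIso

variable {F : Type*} [Field F] (φ : F ≃+* F)

/-- The norm-like map `x ↦ φ x * x`. -/
def nm (x : F) : F := φ x * x

/-- The product of type A. -/
def mu (x y : F × F) : F × F := (x.1 + y.1, x.2 + y.2 + φ x.1 * y.1)

/-- The inverse for the product of type A. -/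
def iv (x : F × F) : F × F := (-x.1, -x.2 + φ x.1 * x.1)

/-- The torus action. -/
def hh (m : F) (x : F × F) : F × F := (m * x.1, nm φ m * x.2)

/-- The point of slope `R` above `a`. -/
def lp (a R : F) : F × F := (a, R * nm φ a)

/-- The point `z`. -/
def zed : F × F := (0, 1)

/-- Standing numerical hypotheses on the field and the twist. -/
structure Good : Prop where
  two : (2 : F) = 0
  nm_inj : ∀ x y : F, φ x * x = φ y * y → x = y
  sq_fix : ∀ x : F, φ x * x * x = 1 → x = 1
  cube : ∀ x : F, x ^ 3 = 1 → x = 1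

/-- The relations between the swapping map `W`, the translations and the torus. -/
structure Rel (W : Option (F × F) → Option (F × F)) (u : F × F) : Prop where
  swap : W none = some 0
  invol : ∀ p, W (W p) = p
  torus : ∀ m : F, m ≠ 0 → ∀ p, W (p.map (hh φ m)) = (W p).map (hh φ m⁻¹)
  braid : ∀ p, W ((W p).map (mu φ zed)) = (W (p.map (mu φ u))).map (mu φ (iv φ u))

variable {φ}

theorem nm_mul (a b : F) : nm φ (a * b) = nm φ a * nm φ b := by
  simp [nm]; ring

theorem nm_zero : nm φ (0 : F) = 0 := by simp [nm]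

theorem nm_one : nm φ (1 : F) = 1 := by simp [nm]

theorem nm_ne {a : F} (h : a ≠ 0) : nm φ a ≠ 0 := by simp [nm, h]

theorem nm_inv (a : F) : nm φ a⁻¹ = (nm φ a)⁻¹ := by simp [nm, mul_comm]

theorem mu_assoc (x y z : F × F) : mu φ (mu φ x y) z = mu φ x (mu φ y z) := by
  simp only [mu, Prod.mk.injEq, map_add]; constructor <;> ring

theorem mu_zero (x : F × F) : mu φ x 0 = x := by simp [mu]

theorem zero_mu (x : F × F) : mu φ 0 x = x := by simp [mu]

theorem iv_mu (x : F × F) : mu φ (iv φ x) x = 0 := by
  simp only [mu, iv, map_neg, Prod.mk_eq_zero]; constructor <;> ring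

theorem mu_iv (x : F × F) : mu φ x (iv φ x) = 0 := by
  simp only [mu, iv, Prod.mk_eq_zero]; constructor <;> ring

theorem mu_iv_cancel (x y : F × F) : mu φ x (mu φ (iv φ x) y) = y := by
  rw [← mu_assoc, mu_iv, zero_mu]

theorem iv_mu_cancel (x y : F × F) : mu φ (iv φ x) (mu φ x y) = y := by
  rw [← mu_assoc, iv_mu, zero_mu]

theorem hh_mu (m : F) (x y : F × F) : hh φ m (mu φ x y) = mu φ (hh φ m x) (hh φ m y) := by
  simp only [hh, mu, nm, map_mul, Prod.mk.injEq]; constructor <;> ring

theorem hh_hh (m n : F) (x : F × F) : hh φ m (hh φ n x) = hh φ (m * n) x := by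
  simp only [hh, nm, map_mul, Prod.mk.injEq]; constructor <;> ring

theorem hh_one (x : F × F) : hh φ 1 x = x := by simp [hh, nm]

theorem hh_zero (m : F) : hh φ m 0 = 0 := by simp [hh]

theorem hh_lp (m a R : F) : hh φ m (lp φ a R) = lp φ (m * a) R := by
  simp only [hh, lp, nm, map_mul, Prod.mk.injEq]
  exact ⟨trivial, by ring⟩

theorem lp_inj {a a' R R' : F} (ha : a ≠ 0) (h : lp φ a R = lp φ a' R') : a = a' ∧ R = R' := by
  simp only [lp, Prod.mk.injEq] at h
  obtain ⟨rfl, h⟩ := h
  exact ⟨rfl, mul_right_cancel₀ (nm_ne ha) h⟩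

theorem eq_lp (x : F × F) (hx : x.1 ≠ 0) : x = lp φ x.1 (x.2 / nm φ x.1) := by
  simp [lp, div_mul_cancel₀ _ (nm_ne (φ := φ) hx)]

namespace Good

theorem charP (hG : Good φ) : CharP F 2 := CharTwo.of_one_ne_zero_of_two_eq_zero one_ne_zero hG.two

theorem add_self (hG : Good φ) (x : F) : x + x = 0 := by linear_combination x * hG.two

theorem neg_eq (hG : Good φ) (x : F) : -x = x := by linear_combination -x * hG.two

theorem eq_of_add (hG : Good φ) {x y : F} (h : x + y = 0) : x = y := by
  linear_combination h - y * hG.two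

theorem add_ne (hG : Good φ) {x : F} (h : x ≠ 1) : 1 + x ≠ 0 := fun e => h (hG.eq_of_add e).symm

theorem nm_ne_one (hG : Good φ) {x : F} (h : x ≠ 1) : nm φ x ≠ 1 := fun e =>
  h (hG.nm_inj x 1 (by simpa [nm] using e))

theorem iv_eq (hG : Good φ) (x : F × F) : iv φ x = (x.1, x.2 + φ x.1 * x.1) := by
  simp [iv, hG.neg_eq]

theorem iv_lp (hG : Good φ) (a R : F) : iv φ (lp φ a R) = lp φ a (R + 1) := by
  simp only [hG.iv_eq, lp, nm, Prod.mk.injEq]; exact ⟨trivial, by ring⟩

theorem nm_surj (hG : Good φ) [Finite F] (y : F) : ∃ x, nm φ x = y :=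
  Finite.surjective_of_injective (f := nm φ) (fun a b h => hG.nm_inj a b h) y

end Good

namespace Rel

variable {W : Option (F × F) → Option (F × F)} {u : F × F}

theorem inj (hR : Rel φ W u) {p q : Option (F × F)} (h : W p = W q) : p = q := by
  rw [← hR.invol p, h, hR.invol]

theorem zero (hR : Rel φ W u) : W (some 0) = none := by rw [← hR.swap, hR.invol]

theorem scale (hR : Rel φ W u) {m : F} (hm : m ≠ 0) {x y : F × F} (h : W (some x) = some y) :
    W (some (hh φ m x)) = some (hh φ m⁻¹ y) := by
  simpa [h] using hR.torus m hm (some x)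

theorem image_z (hR : Rel φ W u) : W (some zed) = some (iv φ u) := by
  simpa [hR.swap, mu_zero] using hR.braid none

theorem fixed (hR : Rel φ W u) : W (some u) = some u := by
  have h : some 0 = (W (some u)).map (mu φ (iv φ u)) := by
    simpa [hR.zero, hR.swap, mu_zero] using hR.braid (some 0)
  cases hw : W (some u) with
  | none => simp [hw] at h
  | some y =>
    simp only [hw, Option.map_some, Option.some.injEq] at h
    rw [← mu_iv_cancel (φ := φ) u y, ← h, mu_zero]

theorem step (hR : Rel φ W u) {v y : F × F} (h : W (some v) = some y) :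
    W (some (mu φ u v)) = (W (some (mu φ zed y))).map (mu φ u) := by
  have h' := hR.braid (some v)
  simp only [h, Option.map_some] at h'
  rw [h']
  cases W (some (mu φ u v)) with
  | none => rfl
  | some x => simp [mu_iv_cancel]

/-- The image of a central element. -/
theorem image_center (hR : Rel φ W u) {s : F} (hs : s ≠ 0) :
    W (some (0, nm φ s)) = some (hh φ s⁻¹ (iv φ u)) := by
  simpa [hh, zed] using hR.scale hs hR.image_z

end Rel

end CfsgLib.Recog.SzIso
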