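import Cfsg.Agent.Lib.Chev.Suz2.TypeA
import Cfsg.Agent.Lib.Recog.SzIso.Plane

/-!
Coordinates on a `2`-group of order `q ^ 2` with `q - 1` involutions, all central and permuted
transitively by an automorphism.
-/

set_option autoImplicit false

namespace CfsgLib.Recog.SzIso

open CfsgLib.Chev.Suz2 (Trans pow_apply_succ cm typeAElt typeAElt_mul typeAElt_one typeAElt_inv
  typeAElt_inj exists_monomial exists_restrict)

theorem exists_map {P : Type*} [Group P] [Finite P] {F : Type*} [Field F] [Finite F] [CharP F 2]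
    (φ : F →+* F) {Z : Subgroup P} (a : P → F) (b : ↥Z → F)
    (hadd : ∀ x y, a (x * y) = a x + a y) (hker : ∀ x, a x = 0 ↔ x ∈ Z)
    (hbadd : ∀ z w, b (z * w) = b z + b w)
    (hsq : ∀ x : P, ∃ h : x * x ∈ Z, b ⟨x * x, h⟩ = φ (a x) * a x) :
    ∃ v : P → F, (∀ x y, v (x * y) = v x + v y + φ (a x) * a y) ∧ ∀ z : ↥Z, v z = b z := by
  classical
  have a1 : a 1 = 0 := (hker 1).2 (one_mem _)
  have ainv : ∀ x, a x⁻¹ = - a x := fun x =>
    eq_neg_of_add_eq_zero_left (by rw [← hadd, inv_mul_cancel, a1])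
  have b1 : b 1 = 0 := by simpa using hbadd 1 1
  let E : Subgroup (P × GL (Fin 3) F) :=
    { carrier := {e | ∃ v, e.2 = typeAElt φ (a e.1) v}
      one_mem' := ⟨0, by rw [Prod.fst_one, a1, typeAElt_one, Prod.snd_one]⟩
      mul_mem' := by
        rintro e e' ⟨v, hv⟩ ⟨v', hv'⟩
        exact ⟨_, by rw [Prod.snd_mul, hv, hv', typeAElt_mul, Prod.fst_mul, hadd]⟩
      inv_mem' := by
        rintro e ⟨v, hv⟩
        exact ⟨_, by rw [Prod.snd_inv, hv, typeAElt_inv, Prod.fst_inv, ainv]⟩ }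
  let ι : ↥Z →* ↥E :=
    { toFun := fun z => ⟨(z, typeAElt φ 0 (b z)), b z, by rw [(hker _).2 z.2]⟩
      map_one' := Subtype.ext (Prod.ext rfl (by
        show typeAElt φ 0 (b 1) = 1
        rw [b1, typeAElt_one]))
      map_mul' := fun z w => Subtype.ext (Prod.ext rfl (by
        show typeAElt φ 0 (b (z * w)) = typeAElt φ 0 (b z) * typeAElt φ 0 (b w)
        rw [typeAElt_mul, hbadd, add_zero, mul_zero, add_zero])) }
  have hsqE : ∀ e : ↥E, e * e ∈ ι.range := by
    rintro ⟨⟨x, g⟩, v, hv⟩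
    change g = typeAElt φ (a x) v at hv
    subst hv
    obtain ⟨h, e⟩ := hsq x
    refine ⟨⟨x * x, h⟩, Subtype.ext (Prod.ext rfl ?_)⟩
    show typeAElt φ 0 (b _) = typeAElt φ (a x) v * typeAElt φ (a x) v
    rw [typeAElt_mul, e, CharTwo.add_self_eq_zero, CharTwo.add_self_eq_zero, zero_add]
  let K : Subgroup ↥E := ((MonoidHom.fst P (GL (Fin 3) F)).comp E.subtype).ker
  have hK : ∀ e : ↥E, e ∈ K ↔ e.1.1 = 1 := fun e => Iff.rfl
  obtain ⟨C, ⟨hDC, hCK⟩, hmax⟩ := (Set.toFinite {C : Subgroup ↥E | ι.range ≤ C ∧ ∀ e ∈ C, e ∈ K → e = 1}).exists_maximal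
    ⟨ι.range, le_rfl, by
      rintro _ ⟨z, rfl⟩ hz
      have : z = 1 := Subtype.ext ((hK _).1 hz)
      rw [this, map_one]⟩
  have hsqC : ∀ e : ↥E, e * e ∈ C := fun e => hDC (hsqE e)
  haveI : C.Normal := ⟨fun c hc g => by
    rw [show g * c * g⁻¹ = g * c * (g * c) * c⁻¹ * (g⁻¹ * g⁻¹) by group]
    exact mul_mem (mul_mem (hsqC _) (inv_mem hc)) (hsqC _)⟩
  have htop : ∀ e : ↥E, e ∈ C ⊔ K := by
    intro e
    by_contra he
    have hle : C ≤ C ⊔ Subgroup.zpowers e := le_sup_left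
    have hmem : e ∈ C ⊔ Subgroup.zpowers e := Subgroup.mem_sup_right (Subgroup.mem_zpowers e)
    refine he (Subgroup.mem_sup_left (hmax ⟨hDC.trans hle, ?_⟩ hle hmem))
    intro x hx hxK
    obtain ⟨c, hc, y, hy, rfl⟩ := Subgroup.mem_sup_of_normal_left.1 hx
    obtain ⟨i, rfl⟩ := Subgroup.mem_zpowers_iff.1 hy
    obtain ⟨m, rfl | rfl⟩ := Int.even_or_odd' i
    · refine hCK _ (mul_mem hc ?_) hxK
      rw [zpow_mul, show (e ^ (2 : ℤ)) = e * e from zpow_two e]
      exact zpow_mem (hsqC e) m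
    · exfalso
      have hem : (e * e) ^ m ∈ C := zpow_mem (hsqC e) m
      have h' : e ^ (2 * m + 1) = (e * e) ^ m * e := by
        rw [zpow_add_one, zpow_mul, zpow_two]
      rw [h', ← mul_assoc] at hxK
      apply he
      have := mul_mem (Subgroup.mem_sup_left (T := K) (inv_mem (mul_mem hc hem)))
        (Subgroup.mem_sup_right (S := C) hxK)
      rwa [inv_mul_cancel_left] at this
  have hex : ∀ x : P, ∃ e ∈ C, (e : P × GL (Fin 3) F).1 = x := fun x => by
    have hx : ((x, typeAElt φ (a x) 0) : P × GL (Fin 3) F) ∈ E := ⟨0, rfl⟩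
    obtain ⟨c, hc, k, hk, e⟩ := Subgroup.mem_sup_of_normal_left.1 (htop ⟨_, hx⟩)
    refine ⟨c, hc, ?_⟩
    have e' : c.1.1 * k.1.1 = x := congrArg (fun t : ↥E => t.1.1) e
    rwa [(hK k).1 hk, mul_one] at e'
  have huniq : ∀ e ∈ C, ∀ e' ∈ C, (e : P × GL (Fin 3) F).1 = (e' : P × GL (Fin 3) F).1 → e = e' :=
    fun e he e' he' h => inv_mul_eq_one.1 (hCK _ (mul_mem (inv_mem he) he') ((hK _).2 (by
      show e.1.1⁻¹ * e'.1.1 = 1
      rw [h, inv_mul_cancel])))
  choose f hfC hf1 using hex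
  have hv : ∀ x, ∃ v, (f x : P × GL (Fin 3) F).2 = typeAElt φ (a x) v := fun x => by
    obtain ⟨v, hv⟩ := (f x).2
    exact ⟨v, by rwa [hf1] at hv⟩
  choose v hv using hv
  refine ⟨v, fun x y => ?_, fun z => ?_⟩
  · have h := congrArg (fun t : ↥E => t.1.2) (huniq _ (hfC (x * y)) _ (mul_mem (hfC x) (hfC y))
      (by show _ = (f x).1.1 * (f y).1.1; rw [hf1, hf1, hf1]))
    have h' : typeAElt φ (a (x * y)) (v (x * y)) = typeAElt φ (a x) (v x) * typeAElt φ (a y) (v y) := by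
      rw [← hv, ← hv, ← hv]; exact h
    rw [typeAElt_mul] at h'
    exact (typeAElt_inj φ h').2
  · have h := congrArg (fun t : ↥E => t.1.2) (huniq _ (hfC z) _ (hDC ⟨z, rfl⟩) (hf1 _))
    have h' : typeAElt φ (a z) (v z) = typeAElt φ 0 (b z) := by
      rw [← hv]; exact h
    exact (typeAElt_inj φ h').2

theorem exists_coord_field {A : Type*} [CommGroup A] [Finite A] [Nontrivial A] {F : Type*} [Field F]
    [Finite F] [CharP F 2] (hcard : Nat.card A = Nat.card F) (hexp : ∀ a : A, a * a = 1) (k : MulAut A)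
    (ht : Trans k) :
    ∃ (i : A → F) (c : F), Function.Bijective i ∧ (∀ a b, i (a * b) = i a + i b) ∧
      (∀ a, i (k a) = c * i a) ∧ ∀ x : F, x ≠ 0 → ∃ j : ℕ, x = c ^ j := by
  have := Fintype.ofFinite F
  obtain ⟨n, i, c, hn, hi, hadd, hk, hc⟩ := CfsgLib.Chev.Suz2.exists_coord hexp k ht
  have := Fintype.ofFinite (GaloisField 2 n)
  have e : Fintype.card (GaloisField 2 n) = Fintype.card F := by
    rw [← Nat.card_eq_fintype_card, ← Nat.card_eq_fintype_card, ← hcard, Nat.card_eq_of_bijective i hi]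
  let ε : GaloisField 2 n ≃+* F := FiniteField.ringEquivOfCardEq e
  refine ⟨fun a => ε (i a), ε c, ε.bijective.comp hi, fun a b => ?_, fun a => ?_, fun x hx => ?_⟩
  · simp [hadd]
  · simp [hk]
  · obtain ⟨j, hj⟩ := hc (ε.symm x) ((map_ne_zero ε.symm).2 hx)
    exact ⟨j, by rw [← map_pow, ← hj, ε.apply_symm_apply]⟩

/-- Coordinates on the group, in which the automorphism is a torus element. -/
theorem exists_coords {P : Type*} [Group P] [Finite P] (hP : IsPGroup 2 P) {F : Type*} [Field F]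
    [Fintype F] [CharP F 2] (k : MulAut P) (hk : Trans k)
    (hkq : k ^ (Fintype.card F - 1) = 1)
    (hcen : ∀ t : P, t * t = 1 → ∀ s : P, s * t = t * s)
    (hinv : Nat.card {t : P // t * t = 1} = Fintype.card F)
    (hcard : Nat.card P = Fintype.card F ^ 2) :
    ∃ (φ : F ≃+* F) (c : F) (e : P ≃ F × F), (∀ x y, e (x * y) = mu φ (e x) (e y)) ∧
      (∀ x, e (k x) = hh φ c (e x)) ∧ (∀ x : F, x ≠ 0 → ∃ j : ℕ, x = c ^ j) ∧
      ∀ x y : F, φ x * x = φ y * y → x = y := by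
  classical
  have hq1 : 1 < Fintype.card F := Fintype.one_lt_card
  let Z : Subgroup P :=
    { carrier := {t | t * t = 1}
      one_mem' := one_mul 1
      mul_mem' := fun {s t} hs ht => by
        show s * t * (s * t) = 1
        rw [mul_assoc s, ← mul_assoc t, ← hcen t ht s, mul_assoc s t t,
          show t * t = 1 from ht, mul_one]
        exact hs
      inv_mem' := fun {s} hs => by
        show s⁻¹ * s⁻¹ = 1
        rw [← mul_inv_rev, show s * s = 1 from hs, inv_one] }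
  have hZc : ∀ z ∈ Z, z * z = 1 := fun z hz => hz
  have hZ' : ∀ {x : P}, x * x = 1 → x ∈ Z := fun h => h
  have hZcen : Z ≤ Subgroup.center P := fun t ht => Subgroup.mem_center_iff.2 (hcen t ht)
  have hZmem : ∀ {z : P}, z ∈ Z → ∀ g : P, g * z = z * g := fun hz g => hcen _ hz g
  haveI : Z.Normal := ⟨fun n hn g => by rwa [hZmem hn g, mul_inv_cancel_right]⟩
  have hcardZ : Nat.card ↥Z = Fintype.card F := hinv
  have hkZ : ∀ {x : P}, x ∈ Z → k x ∈ Z := fun {x} hx => hZ' (by rw [← map_mul, hZc x hx, map_one])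
  have hkZi : ∀ (i : ℕ) (x : P), x * x ∈ Z → (k ^ i) x * (k ^ i) x ∈ Z := fun i x hx =>
    hZ' (by rw [← map_mul, ← map_mul, hZc _ hx, map_one])
  obtain ⟨x₁, hx₁, hx₁'⟩ : ∃ y, y * y ∈ Z ∧ y * y ≠ 1 := by
    obtain ⟨g, hg⟩ : ∃ g, g ∉ Z := by
      by_contra h
      push Not at h
      rw [(Subgroup.eq_top_iff' Z).2 h, Subgroup.card_top, hcard] at hcardZ
      nlinarith
    obtain ⟨j, hj⟩ := hP g
    induction j generalizing g with
    | zero => rw [pow_zero, pow_one] at hj; exact absurd (hj ▸ one_mem Z) hg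
    | succ j ih =>
      by_cases h : g * g ∈ Z
      · exact ⟨g, h, fun e => hg (hZ' e)⟩
      · exact ih (g * g) h (by rw [← pow_two, ← pow_mul, ← pow_succ', hj])
  have hroot : ∀ z ∈ Z, ∃ y, y * y = z ∧ y * y ∈ Z := by
    intro z hz
    rcases eq_or_ne z 1 with rfl | hz1
    · exact ⟨1, one_mul 1, by simp⟩
    · obtain ⟨i, hi⟩ := hk (x₁ * x₁) z hx₁' (hZc _ hx₁) hz1 (hZc z hz)
      exact ⟨(k ^ i) x₁, by rw [← map_mul]; exact hi, hkZi i _ hx₁⟩
  choose r hr hr' using hroot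
  have sqz : ∀ (t : P) (v : ↥Z), t * v * (t * v) = t * t := fun t v => by
    rw [mul_assoc t, ← mul_assoc (v : P), ← hZmem v.2 t, mul_assoc t (v : P), hZc _ v.2, mul_one]
  let rw' : ↥Z × ↥Z → P := fun p => r p.1 p.1.2 * p.2
  have hinjr : Function.Injective rw' := by
    rintro ⟨⟨z, hz⟩, w⟩ ⟨⟨z', hz'⟩, w'⟩ e
    have e' : r z hz * w = r z' hz' * w' := e
    have hzz : z = z' := by
      calc z = r z hz * w * (r z hz * w) := by rw [sqz, hr]
        _ = r z' hz' * w' * (r z' hz' * w') := by rw [e']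
        _ = z' := by rw [sqz, hr]
    subst hzz
    rw [Subtype.ext (mul_left_cancel e')]
  have hsurr : Function.Surjective rw' :=
    ((Nat.bijective_iff_injective_and_card rw').2
      ⟨hinjr, by rw [Nat.card_prod, hcardZ, hcard, pow_two]⟩).2
  have hsqZ : ∀ x : P, x * x ∈ Z := fun x => by
    obtain ⟨⟨z, w⟩, rfl⟩ := hsurr x
    rw [sqz]
    exact hr' _ _
  have hindex : Nat.card (P ⧸ Z) = Nat.card ↥Z := by
    have h := Subgroup.card_eq_card_quotient_mul_card_subgroup Z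
    rw [hcard, hcardZ, pow_two] at h
    exact (Nat.eq_of_mul_eq_mul_right Fintype.card_pos h).symm.trans hcardZ.symm
  let Q : P ⧸ Z → ↥Z := Quotient.lift (fun x => (⟨x * x, hsqZ x⟩ : ↥Z)) fun x y h => by
    have hm : x⁻¹ * y ∈ Z := QuotientGroup.leftRel_apply.1 h
    refine Subtype.ext ?_
    show x * x = y * y
    conv_rhs => rw [← mul_inv_cancel_left x y]
    exact (sqz x ⟨_, hm⟩).symm
  have hQ : Function.Bijective Q := by
    refine (Nat.bijective_iff_surjective_and_card Q).2 ⟨fun z => ?_, hindex⟩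
    exact ⟨QuotientGroup.mk (r z z.2), Subtype.ext (hr _ _)⟩
  have hsqinj : ∀ {x y : P}, x * x = y * y → (QuotientGroup.mk x : P ⧸ Z) = QuotientGroup.mk y :=
    fun {x y} h => hQ.1 (Subtype.ext h)
  have hqexp : ∀ t : P ⧸ Z, t * t = 1 := fun t => by
    induction t using QuotientGroup.induction_on with
    | H x => rw [← QuotientGroup.mk_mul]; exact (QuotientGroup.eq_one_iff _).2 (hsqZ x)
  letI : CommGroup (P ⧸ Z) :=
    { (inferInstance : Group (P ⧸ Z)) with
      mul_comm := fun s t => by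
        have hi : ∀ u : P ⧸ Z, u⁻¹ = u := fun u => inv_eq_of_mul_eq_one_right (hqexp u)
        calc s * t = (s * t)⁻¹ := (hi _).symm
          _ = t * s := by rw [mul_inv_rev, hi, hi] }
  letI : CommGroup ↥Z :=
    { (inferInstance : Group ↥Z) with mul_comm := fun s t => Subtype.ext (hZmem t.2 s) }
  have hcmZ : ∀ x y : P, cm x y ∈ Z := fun x y => by
    rw [← QuotientGroup.eq_one_iff]
    show ((x⁻¹ * y⁻¹ * x * y : P) : P ⧸ Z) = 1
    rw [QuotientGroup.mk_mul, QuotientGroup.mk_mul, QuotientGroup.mk_mul, QuotientGroup.mk_inv,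
      QuotientGroup.mk_inv, mul_right_comm (_⁻¹) (_⁻¹) _, inv_mul_cancel, one_mul, inv_mul_cancel]
  have : Nontrivial ↥Z := Finite.one_lt_card_iff_nontrivial.1 (hcardZ ▸ hq1)
  have : Nontrivial (P ⧸ Z) := Finite.one_lt_card_iff_nontrivial.1 (by rw [hindex, hcardZ]; exact hq1)
  have hmap : Z.map k.toMonoidHom = Z := by
    refine Subgroup.eq_of_le_of_card_ge (Subgroup.map_le_iff_le_comap.2 fun x hx => hkZ hx) ?_
    exact (Nat.card_congr (k.subgroupMap Z).toEquiv).le
  let kq : MulAut (P ⧸ Z) := QuotientGroup.congr Z Z k hmap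
  have hkq : ∀ x : P, kq (QuotientGroup.mk x) = QuotientGroup.mk (k x) := fun x => rfl
  have hkqi : ∀ (i : ℕ) (x : P), (kq ^ i) (QuotientGroup.mk x) = QuotientGroup.mk ((k ^ i) x) := by
    intro i
    induction i with
    | zero => intro x; rfl
    | succ i ih => intro x; rw [pow_apply_succ, pow_apply_succ, ih, hkq]
  have hTq : Trans kq := by
    intro s t hs _ ht _
    induction s using QuotientGroup.induction_on with
    | H x =>
      induction t using QuotientGroup.induction_on with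
      | H y =>
        have hx : x * x ≠ 1 := fun h => hs ((QuotientGroup.eq_one_iff x).2 (hZ' h))
        have hy : y * y ≠ 1 := fun h => ht ((QuotientGroup.eq_one_iff y).2 (hZ' h))
        obtain ⟨i, hi⟩ := hk (x * x) (y * y) hx (hZc _ (hsqZ x)) hy (hZc _ (hsqZ y))
        exact ⟨i, by rw [hkqi]; exact hsqinj (by rw [← map_mul, hi])⟩
  have hFcard : Nat.card F = Fintype.card F := Nat.card_eq_fintype_card
  obtain ⟨i, c, hi, hiadd, hik, hc⟩ :=
    exists_coord_field (F := F) (by rw [hindex, hcardZ, hFcard]) hqexp kq hTq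
  obtain ⟨kz, hkz⟩ := exists_restrict k Z (fun x hx => hkZ hx)
  have hTz : Trans kz := by
    intro s t hs hs' ht ht'
    obtain ⟨j, hj⟩ := hk s t (fun h => hs (Subtype.ext h)) (congrArg Subtype.val hs')
      (fun h => ht (Subtype.ext h)) (congrArg Subtype.val ht')
    exact ⟨j, Subtype.ext (by rw [hkz, hj])⟩
  obtain ⟨j, d, hj, hjadd, hjk, -⟩ := exists_coord_field (F := F) (by rw [hcardZ, hFcard])
    (fun z : ↥Z => Subtype.ext (hZc _ z.2)) kz hTz
  let a : P → F := fun x => i (QuotientGroup.mk x)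
  have hadd : ∀ x y, a (x * y) = a x + a y := fun x y => hiadd (QuotientGroup.mk x) (QuotientGroup.mk y)
  have hi1 : i 1 = 0 := by simpa using hiadd 1 1
  have hj1 : j 1 = 0 := by simpa using hjadd 1 1
  have hker : ∀ x, a x = 0 ↔ x ∈ Z := fun x =>
    ⟨fun h => (QuotientGroup.eq_one_iff x).1 (hi.1 (h.trans hi1.symm)),
      fun h => (congrArg i ((QuotientGroup.eq_one_iff x).2 h)).trans hi1⟩
  have hsurj : Function.Surjective a := fun v => by
    obtain ⟨t, rfl⟩ := hi.2 v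
    obtain ⟨x, rfl⟩ := QuotientGroup.mk_surjective t
    exact ⟨x, rfl⟩
  let S : F → F := fun v => j (Q ((Equiv.ofBijective i hi).symm v))
  have hSa : ∀ x, S (a x) = j ⟨x * x, hsqZ x⟩ := fun x => by
    show j (Q ((Equiv.ofBijective i hi).symm (i _))) = _
    rw [Equiv.ofBijective_symm_apply_apply]; rfl
  have hSmul : ∀ x y, S (a (x * y)) = S (a x) + S (a y) + j ⟨cm y x, hcmZ y x⟩ := fun x y => by
    rw [hSa, hSa, hSa, ← hjadd, ← hjadd]
    exact congrArg j (Subtype.ext (CfsgLib.Chev.Suz2.sq_mul (hZcen (hcmZ y x))))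
  have hqd : ∀ u v w, S (u + v + w) + S (u + v) + S (u + w) + S (v + w) + S u + S v + S w = 0 := by
    intro u v w
    obtain ⟨x, rfl⟩ := hsurj u
    obtain ⟨y, rfl⟩ := hsurj v
    obtain ⟨z, rfl⟩ := hsurj w
    rw [← hadd, ← hadd, ← hadd, ← hadd, hSmul (x * y) z, hSmul x y, hSmul x z, hSmul y z]
    have e : j ⟨cm z (x * y), hcmZ z (x * y)⟩ = j ⟨cm z y, hcmZ z y⟩ + j ⟨cm z x, hcmZ z x⟩ := by
      rw [← hjadd]
      exact congrArg j (Subtype.ext (CfsgLib.Chev.Suz2.cm_mul_right (hZcen (hcmZ z x))))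
    rw [e]
    linear_combination (2 * S (a x) + 2 * S (a y) + 2 * S (a z) + j ⟨cm y x, hcmZ y x⟩ +
      j ⟨cm z x, hcmZ z x⟩ + j ⟨cm z y, hcmZ z y⟩) * CharTwo.two_eq_zero (R := F)
  have hak : ∀ x, a (k x) = c * a x := fun x => hik (QuotientGroup.mk x)
  have hSk : ∀ u, S (c * u) = d * S u := by
    intro u
    obtain ⟨x, rfl⟩ := hsurj u
    rw [← hak, hSa, hSa, ← hjk]
    refine congrArg j (Subtype.ext ?_)
    have := hkz 1 ⟨x * x, hsqZ x⟩
    rw [pow_one, pow_one] at this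
    rw [this, map_mul]
  have hS0 : ∀ u, S u = 0 → u = 0 := by
    intro u hu
    obtain ⟨x, rfl⟩ := hsurj u
    rw [hSa] at hu
    exact (hker x).2 (hZ' (congrArg Subtype.val (hj.1 (hu.trans hj1.symm))))
  have h1 : S 1 ≠ 0 := fun h => one_ne_zero (hS0 1 h)
  obtain ⟨σ, τ, hστ⟩ := exists_monomial hc S hqd hSk h1
  set φ := τ.trans σ.symm with hφ
  let b : ↥Z → F := fun z => σ.symm (j z * (S 1)⁻¹)
  have hbS : ∀ x, b ⟨x * x, hsqZ x⟩ = φ (a x) * a x := fun x => by
    show σ.symm (j ⟨x * x, hsqZ x⟩ * (S 1)⁻¹) = σ.symm (τ (a x)) * a x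
    rw [← hSa, hστ, mul_comm (S 1), mul_assoc, mul_inv_cancel₀ h1, mul_one, map_mul,
      RingEquiv.symm_apply_apply, mul_comm]
  have hbij : Function.Bijective b :=
    σ.symm.bijective.comp ((Equiv.mulRight₀ (S 1)⁻¹ (inv_ne_zero h1)).bijective.comp hj)
  have hbadd : ∀ z w, b (z * w) = b z + b w := fun z w => by
    show σ.symm (j (z * w) * _) = σ.symm (j z * _) + σ.symm (j w * _)
    rw [hjadd, add_mul, map_add]
  have hb1 : b 1 = 0 := by simpa using hbadd 1 1
  have hinjn : ∀ u v : F, φ u * u = φ v * v → u = v := fun u v h => by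
    obtain ⟨x, rfl⟩ := hsurj u
    obtain ⟨y, rfl⟩ := hsurj v
    rw [← hbS, ← hbS] at h
    exact congrArg i (hsqinj (congrArg Subtype.val (hbij.1 h)))
  obtain ⟨v, hv, hvz⟩ := exists_map (φ : F →+* F) a b hadd hker hbadd (fun x => ⟨hsqZ x, hbS x⟩)
  have hc0 : c ≠ 0 := fun e => by
    obtain ⟨x, hx⟩ := hsurj 1
    have := hak x
    rw [e, zero_mul] at this
    have hm : k x ∈ Z := (hker _).1 this
    have hxx : k (x * x) = k 1 := by rw [map_mul, map_one]; exact hZc _ hm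
    have := (hker x).2 (hZ' (k.injective hxx))
    rw [hx] at this
    exact one_ne_zero this
  set lam := φ c * c with hlam
  have hlam0 : lam ≠ 0 := mul_ne_zero ((map_ne_zero φ).2 hc0) hc0
  have haki : ∀ (n : ℕ) x, a ((k ^ n) x) = c ^ n * a x := by
    intro n
    induction n with
    | zero => intro x; simp
    | succ n ih => intro x; rw [pow_apply_succ, hak, ih]; ring
  have hbk : ∀ (n : ℕ) (z : ↥Z) (h : (k ^ n) (z : P) ∈ Z), b ⟨_, h⟩ = lam ^ n * b z := by
    intro n z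
    obtain ⟨t, ht⟩ := hQ.2 z
    obtain ⟨x, rfl⟩ := QuotientGroup.mk_surjective t
    subst ht
    intro h
    show b ⟨_, h⟩ = lam ^ n * b ⟨x * x, hsqZ x⟩
    have e : (⟨_, h⟩ : ↥Z) = ⟨(k ^ n) x * (k ^ n) x, hsqZ _⟩ := Subtype.ext (map_mul _ x x)
    rw [e, hbS, hbS, haki, hlam, map_mul, map_pow, mul_pow]
    ring
  set N := Fintype.card F - 1 with hN
  have hodd : (N : F) = 1 := by
    have h := FiniteField.cast_card_eq_zero F
    rw [show Fintype.card F = N + 1 by omega, Nat.cast_add, Nat.cast_one] at h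
    linear_combination h - CharTwo.two_eq_zero (R := F)
  let v' : P → F := fun x => ∑ n ∈ Finset.range N, (lam ^ n)⁻¹ * v ((k ^ n) x)
  have hv'mul : ∀ x y, v' (x * y) = v' x + v' y + φ (a x) * a y := fun x y => by
    have : ∀ n ∈ Finset.range N, (lam ^ n)⁻¹ * v ((k ^ n) (x * y)) =
        (lam ^ n)⁻¹ * v ((k ^ n) x) + (lam ^ n)⁻¹ * v ((k ^ n) y) + φ (a x) * a y := fun n _ => by
      rw [map_mul, hv, haki, haki, hlam, mul_pow, ← map_pow]
      simp only [RingEquiv.coe_toRingHom, map_mul]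
      have := (map_ne_zero φ).2 (pow_ne_zero n hc0)
      have := pow_ne_zero n hc0
      field_simp
    show ∑ n ∈ Finset.range N, _ = _
    rw [Finset.sum_congr rfl this, Finset.sum_add_distrib, Finset.sum_add_distrib, Finset.sum_const,
      Finset.card_range, nsmul_eq_mul, hodd, one_mul]
  have hv'z : ∀ z : ↥Z, v' z = b z := fun z => by
    have : ∀ n ∈ Finset.range N, (lam ^ n)⁻¹ * v ((k ^ n) (z : P)) = b z := fun n _ => by
      have hm : (k ^ n) (z : P) ∈ Z := hZ' (by rw [← map_mul, hZc _ z.2, map_one])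
      rw [hvz ⟨_, hm⟩, hbk, ← mul_assoc, inv_mul_cancel₀ (pow_ne_zero _ hlam0), one_mul]
    show ∑ n ∈ Finset.range N, _ = _
    rw [Finset.sum_congr rfl this, Finset.sum_const, Finset.card_range, nsmul_eq_mul, hodd, one_mul]
  have hlamN : lam ^ N = 1 := FiniteField.pow_card_sub_one_eq_one lam hlam0
  have hv'k : ∀ x, v' (k x) = lam * v' x := fun x => by
    let g : ℕ → F := fun n => (lam ^ n)⁻¹ * v ((k ^ n) x)
    have hg : g N = g 0 := by simp [g, hlamN, hkq, N]
    have h2 : ∑ n ∈ Finset.range N, g (n + 1) = ∑ n ∈ Finset.range N, g n := by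
      have e1 := Finset.sum_range_succ g N
      have e2 := Finset.sum_range_succ' g N
      linear_combination e1 - e2 + hg
    show _ = lam * ∑ n ∈ Finset.range N, g n
    rw [← h2, Finset.mul_sum]
    refine Finset.sum_congr rfl fun n _ => ?_
    simp only [g, pow_succ, MulAut.mul_apply]
    field_simp
  let e0 : P → F × F := fun x => (a x, v' x)
  have he0 : Function.Bijective e0 := by
    refine (Nat.bijective_iff_injective_and_card e0).2 ⟨fun x y h => ?_, ?_⟩
    · obtain ⟨ha, hv''⟩ := Prod.mk.inj h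
      have hm : (QuotientGroup.mk x : P ⧸ Z) = QuotientGroup.mk y := hi.1 ha
      have hm' : x⁻¹ * y ∈ Z := QuotientGroup.eq.1 hm
      have h1' := hv'mul x (x⁻¹ * y)
      rw [mul_inv_cancel_left, hv'', (hker _).2 hm', mul_zero, add_zero, hv'z ⟨_, hm'⟩] at h1'
      have : (⟨_, hm'⟩ : ↥Z) = 1 := hbij.1 (by rw [hb1]; linear_combination -h1')
      exact inv_mul_eq_one.1 (congrArg Subtype.val this)
    · rw [hcard, Nat.card_prod, hFcard, pow_two]
  refine ⟨φ, c, Equiv.ofBijective e0 he0, fun x y => ?_, fun x => ?_, hc, hinjn⟩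
  · show (a (x * y), v' (x * y)) = _
    rw [hadd, hv'mul]; rfl
  · show (a (k x), v' (k x)) = _
    rw [hak, hv'k]; rfl

end CfsgLib.Recog.SzIso
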