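import Cfsg.Agent.Lib.Recog.SzIso.Gen
import Cfsg.Agent.Lib.KnownA.Suzuki.Facts

/-!
The Suzuki group as a permutation group of the completed plane.
-/

set_option autoImplicit false

namespace CfsgLib.Recog.SzIso

open CfsgLib.KnownA.Suzuki Cfsg.Lie

variable {F : Type*} [Field F] [Finite F] {e : ℕ} (H : TitsField F e)

/-- The Tits endomorphism as an automorphism. -/
noncomputable def powE : F ≃+* F :=
  RingEquiv.ofBijective
    (RingHom.mk' (powMonoidHom e) fun x y => H.add_pow x y)
    ((Finite.injective_iff_bijective).1 fun _ _ h => H.pow_inj h)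

theorem powE_apply (x : F) : powE H x = x ^ e := rfl

include H in
theorem sw_braid : sw H * su H 0 1 * sw H = (su H 1 1)⁻¹ * sw H * su H 1 1 := by
  rw [su_inv]
  refine mat_ext ?_
  simp only [mat_mul]
  ext i j
  fin_cases i <;> fin_cases j <;>
    simp [mat, su, sw, uGL, wGL, uMat, wMat, fv, Matrix.mul_apply, Fin.sum_univ_four, H.e_ne,
      H.two, H.three, H.four, H.add_self] <;>
    (try ring_nf) <;> (try simp [H.two, H.three, H.four])

include H in
theorem exists_model : ∃ W : Equiv.Perm (Option (F × F)),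
    Rel (powE H) W (lp (powE H) 1 1) ∧ Nonempty (Sz F e ≃* Gen (powE H) W) := by
  classical
  choose f hf using fun (g : Sz F e) p => exists_moves H g p
  have hfu : ∀ g p p', Moves H g p p' → f g p = p' := fun g p p' h => Moves.unique H (hf g p) h
  have h1 : ∀ p, f 1 p = p := fun p => hfu _ _ _ (by simp [Moves])
  have hm : ∀ g k p, f (g * k) p = f g (f k p) := fun g k p =>
    hfu _ _ _ (Moves.trans H (hf k p) (hf g _))
  let ρ : Sz F e →* Equiv.Perm (Option (F × F)) :=
    { toFun := fun g => ⟨f g, f g⁻¹, fun p => by rw [← hm, inv_mul_cancel, h1],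
        fun p => by rw [← hm, mul_inv_cancel, h1]⟩
      map_one' := Equiv.ext h1
      map_mul' := fun g k => Equiv.ext (hm g k) }
  have hρ : ∀ g p p', Moves H g p p' → ρ g p = p' := hfu
  have hinj : Function.Injective ρ := (injective_iff_map_eq_one ρ).2 fun g hg => by
    have h : ∀ p, Moves H g p p := fun p => by
      have := hf g p
      rwa [show f g p = p from DFunLike.congr_fun hg p] at this
    exact eq_one_of_three H (p := none) (q := some (0, 0)) (r := some (1, 0)) (by simp) (by simp)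
      (by simp) (h _) (h _) (h _)
  have htr : ∀ a b, ρ (su H a b) = trO (powE H) (a, b) := fun a b => Equiv.ext fun p => by
    rw [trO_apply]
    refine hρ _ _ _ ?_
    rcases p with _ | ⟨c, d⟩
    · exact borel_moves H (su_mem_borel H a b)
    · exact su_moves H a b c d
  have hsc : ∀ (t : Fˣ) (m : Fˣ), (m : F) = ((t⁻¹ : Fˣ) : F) ^ e →
      ρ (sh H t) = scO (powE H) m := fun t m hm => Equiv.ext fun p => by
    rw [scO_apply]
    refine hρ _ _ _ ?_
    rcases p with _ | ⟨c, d⟩
    · exact borel_moves H (sh_mem_borel H t)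
    · show Moves H _ _ (some _)
      rw [show hh (powE H) (m : F) (c, d) =
        ((((t⁻¹ : Fˣ) : F)) ^ e * c, (((t⁻¹ : Fˣ) : F)) ^ (e + 2) * d) by
          rw [hh, nm, powE_apply, hm, H.sq]
          simp [pow_add, mul_comm]]
      exact toSL_sh_some H t c d
  have hsur : ∀ m : Fˣ, ∃ t : Fˣ, (m : F) = ((t⁻¹ : Fˣ) : F) ^ e := fun m => by
    obtain ⟨s, hs⟩ := (powE H).surjective (m : F)
    rw [powE_apply] at hs
    have hs0 : s ≠ 0 := by rintro rfl; exact m.ne_zero (by rw [← hs, zero_pow H.e_ne])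
    exact ⟨(Units.mk0 s hs0)⁻¹, by rw [inv_inv, Units.val_mk0, hs]⟩
  set W := ρ (sw H) with hW
  have hswap : W none = some 0 := hρ _ _ _ (by
    have : Moves H (rep H (some ((0 : F), (0 : F)))) none (some (0, 0)) := toSL_rep H _
    rwa [rep, su_zero, one_mul] at this)
  refine ⟨W, ⟨hswap, fun p => ?_, fun m hm0 p => ?_, fun p => ?_⟩, ?_⟩
  · rw [hW, ← Equiv.Perm.mul_apply, ← map_mul, sw_sq, map_one]; rfl
  · obtain ⟨t, ht⟩ := hsur (Units.mk0 m hm0)
    have e1 := hsc t (Units.mk0 m hm0) ht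
    have e2 := hsc t⁻¹ (Units.mk0 m hm0)⁻¹ (by
      rw [Units.val_inv_eq_inv_val, ht, inv_inv, Units.val_inv_eq_inv_val, inv_pow, inv_inv])
    have h3 : sw H * sh H t = sh H t⁻¹ * sw H := by
      rw [sw_conj, inv_inv]
    have := congrArg (fun g => ρ g p) h3
    simpa [map_mul, e1, e2, scO_apply, hW] using this
  · have h3 := congrArg (fun g => ρ g p) (sw_braid H)
    rw [su_inv] at h3
    simpa [map_mul, htr, trO_apply, hW, mu, zed, lp, iv, nm, powE_apply, H.neg_eq] using h3
  · refine ⟨(MonoidHom.ofInjective hinj).trans (MulEquiv.subgroupCongr ?_)⟩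
    refine le_antisymm ?_ ((Subgroup.closure_le _).2 ?_)
    · rintro _ ⟨g, rfl⟩
      obtain ⟨⟨p, ⟨a, b⟩, t⟩, rfl⟩ := normalForm_surjective H g
      have hu : ∀ a b, ρ (su H a b) ∈ Gen (powE H) W := fun a b =>
        Subgroup.subset_closure (Or.inl (Or.inl ⟨(a, b), (htr a b).symm⟩))
      have hh' : ρ (sh H t) ∈ Gen (powE H) W := Subgroup.subset_closure (Or.inl (Or.inr
        ⟨Units.mk0 (((t⁻¹ : Fˣ) : F) ^ e) (pow_ne_zero _ (Units.ne_zero _)), (hsc t _ rfl).symm⟩))
      have hw : ρ (sw H) ∈ Gen (powE H) W := Subgroup.subset_closure (Or.inr rfl)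
      have hr : ρ (rep H p) ∈ Gen (powE H) W := by
        rcases p with _ | ⟨c, d⟩
        · rw [rep, map_one]; exact one_mem _
        · rw [rep, map_mul]; exact mul_mem (hu c d) hw
      rw [normalForm, map_mul, map_mul]
      exact mul_mem hr (mul_mem (hu a b) hh')
    · rintro g ((⟨⟨a, b⟩, rfl⟩ | ⟨m, rfl⟩) | rfl)
      · exact ⟨_, htr a b⟩
      · obtain ⟨t, ht⟩ := hsur m
        exact ⟨_, hsc t m ht⟩
      · exact ⟨_, rfl⟩

end CfsgLib.Recog.SzIso
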