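import Cfsg.Agent.Lib.Recog.SzIso.Core

/-!
The twist squares to the Frobenius map.
-/

set_option autoImplicit false
set_option maxHeartbeats 1000000

namespace CfsgLib.Recog.SzIso

variable {F : Type*} [Field F] [Finite F] {φ : F ≃+* F} {W : Option (F × F) → Option (F × F)}
  (hG : Good φ) {r : F} (hR : Rel φ W (lp φ 1 r)) (hr : ∀ x : F, (r + 1) * (φ x + x) = 0)

include hG hR hr

theorem twist_key {x : F} (hx : x ≠ 0) (hx1 : x ≠ 1) :
    φ x + φ.symm x * φ.symm x = 0 ∨
      (φ x + φ.symm x * φ.symm x) * (x * x) * (1 + x * φ x + x * x * φ x) +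
        (φ (φ x) + x * x) * φ x *
          ((x * x + x) * (φ x + φ.symm x * φ.symm x) + φ.symm x) = 0 := by
  have two := hG.two
  have hφu : φ (φ.symm x) = x := φ.apply_symm_apply x
  have hy : φ x ≠ 0 := (map_ne_zero φ).2 hx
  have hy1 : φ x ≠ 1 := fun e => hx1 (φ.injective (by rw [e, map_one]))
  have h1x : 1 + x ≠ 0 := hG.add_ne hx1
  have h1y : 1 + φ x ≠ 0 := hG.add_ne hy1
  set P := 1 + x * φ.symm x with hPdef
  have hφP : φ P = 1 + φ x * x := by rw [hPdef, map_add, map_one, map_mul, hφu]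
  have hP1 : P ≠ 1 := fun e => by
    rw [e, map_one] at hφP
    exact mul_ne_zero hy hx (by linear_combination -hφP)
  have hP0 : P ≠ 0 := fun e => hG.add_ne (hG.nm_ne_one hx1) (by rw [nm, ← hφP, e, map_zero])
  obtain ⟨P', hP'0, -, hpair, himg⟩ := label_image' hG hR one_ne_zero hr hP0 hP1
  have hv := hR.scale hx hR.fixed
  rw [hh_lp, hh_lp, mul_one, mul_one] at hv
  have h1 := hR.step hv
  have e1 : mu φ zed (lp φ x⁻¹ r) = lp φ x⁻¹ (r + 1 + φ P) := by
    simp only [mu, zed, lp, nm, hφP, map_zero, zero_add, zero_mul, add_zero, map_inv₀,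
      Prod.mk.injEq, true_and]
    field_simp
    linear_combination -two
  have e2 : mu φ (lp φ 1 r) (lp φ x r) = lp φ (1 + x) (r + φ x / nm φ (1 + x)) := by
    simp only [mu, lp, Prod.mk.injEq, true_and, nm_one, nm, map_one, map_add]
    field_simp
    linear_combination -hr x + x * two
  rw [e1, himg _ (inv_ne_zero hx), e2, Option.map_some] at h1
  set a := (1 : F) ^ 2 / (P * P' * x⁻¹) with hadef
  have ha : a * (P * P') = x := by rw [hadef]; field_simp
  have hφa : φ a * (φ P * φ P') = φ x := by simpa using congrArg φ ha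
  by_cases hQ : 1 + x + φ x * x = 0
  · left
    have e3 : lp φ (1 + x) (r + φ x / nm φ (1 + x)) = hh φ (1 + x) (iv φ (lp φ 1 r)) := by
      rw [hG.iv_lp, hh_lp, mul_one]
      congr 1
      simp only [nm, map_add, map_one]
      field_simp
      linear_combination -hQ
    have hiv : W (some (iv φ (lp φ 1 r))) = some zed := by rw [← hR.image_z, hR.invol]
    rw [e3, hR.scale h1x hiv, Option.some.injEq] at h1
    simp only [hh, zed, mu, lp, nm_one, Prod.mk.injEq, mul_zero, mul_one, map_one, one_mul] at h1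
    obtain ⟨h1a, h1b⟩ := h1
    have ha1 : a = 1 := (hG.eq_of_add h1a.symm).symm
    rw [ha1] at h1b hφa
    simp only [nm_one, nm_inv, mul_one, map_one, one_mul] at h1b hφa
    have hP'v : φ P' * nm φ (1 + x) = 1 := by
      have hn := nm_ne (φ := φ) h1x
      field_simp at h1b
      linear_combination -h1b - (r + 1) * nm φ (1 + x) * two
    simp only [nm, map_add, map_one] at hP'v
    have hxy : x = φ x * φ x := by
      rw [hφP] at hφa
      linear_combination -((1 + φ x) * (1 + x)) * hφa + (1 + φ x * x) * hP'v +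
        (-(φ x) - 1) * hQ + (x + φ x * x + 1 - φ x * φ x) * two
    have hu : φ.symm x = x * x := by
      have := congrArg φ.symm hxy
      rwa [map_mul, φ.symm_apply_apply] at this
    have hq : 1 + φ x * φ x + φ x * φ x * φ x = 0 := by
      linear_combination hQ - (1 + φ x) * hxy
    rw [hu]
    generalize φ x = y at hq hxy ⊢
    rw [hxy]
    linear_combination y * (y + 1) * (y * y * y + y + 1) * hq + (-1*y^2 + -1*y^3 + -2*y^4 + -2*y^5 + -1*y^6 + -1*y^7) * two
  · right
    have hφQ : (1 + x + φ x * x) / nm φ (1 + x) ≠ 0 := div_ne_zero hQ (nm_ne h1x)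
    set P₂ := φ.symm ((1 + x + φ x * x) / nm φ (1 + x)) with hP₂
    have hφP₂ : φ P₂ * ((1 + φ x) * (1 + x)) = 1 + x + φ x * x := by
      rw [hP₂, φ.apply_symm_apply, nm, map_add, map_one]
      field_simp
    have hP₂0 : P₂ ≠ 0 := fun e => hφQ (by rw [← φ.apply_symm_apply (_ / _), ← hP₂, e, map_zero])
    have hP₂1 : P₂ ≠ 1 := fun e => by
      rw [e, map_one] at hφP₂
      exact hy (by linear_combination hφP₂)
    obtain ⟨P₂', hP₂'0, -, -, himg₂⟩ := label_image' hG hR one_ne_zero hr hP₂0 hP₂1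
    have e4 : r + φ x / nm φ (1 + x) = r + 1 + φ P₂ := by
      rw [hP₂, φ.apply_symm_apply, nm, map_add, map_one]
      field_simp
      linear_combination -(1 + x + φ x * x) * two
    rw [e4, himg₂ _ h1x, Option.some.injEq] at h1
    simp only [lp, mu, nm_one, mul_one, map_one, one_mul, Prod.mk.injEq] at h1
    obtain ⟨hI, hII⟩ := h1
    rw [hI] at hII
    have hI' : (1 + a) * (P₂ * P₂' * (1 + x)) = 1 := by
      rw [← hI]
      field_simp
    have hIII : φ (1 + a) * (φ P₂ * φ P₂' * (1 + φ x)) = 1 := by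
      simpa using congrArg φ hI'
    simp only [nm, map_add, map_one] at hII hIII
    have hII' : φ P₂' * ((1 + φ a) * (1 + a)) = 1 + φ P' * (φ a * a) + a := by
      linear_combination hII - hr a - two
    have hc : φ P' * φ a * (1 + φ x * x) = φ x := by rw [← hφP]; linear_combination hφa
    have hd : (1 + a) * (1 + x) = (1 + φ P' * (φ a * a) + a) * (1 + x + φ x * x) := by
      linear_combination -((1 + a) * (1 + x)) * hIII + (φ P₂ * ((1 + φ x) * (1 + x))) * hII' +
        (1 + φ P' * (φ a * a) + a) * hφP₂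
    have hd' : a * (1 + x * φ x + x * x * φ x) = x * (1 + φ x * x) := by
      refine mul_left_cancel₀ hy ?_
      linear_combination -(1 + φ x * x) * hd - a * (1 + x + φ x * x) * hc +
        (-(φ x * x * (1 + φ x * x)) - φ x * x * a) * two
    have hE : P' * ((1 + φ x * x) * P) = 1 + x * φ x + x * x * φ x := by
      refine mul_left_cancel₀ hx ?_
      linear_combination -(P * P') * hd' + (1 + x * φ x + x * x * φ x) * ha
    set E := 1 + x * φ x + x * x * φ x with hEdef
    set D := (1 + φ x * x) * P with hD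
    have hφE : φ P' * φ D = φ E := by rw [← map_mul, hE]
    have hφD : φ D = (1 + φ (φ x) * φ x) * (1 + φ x * x) := by rw [hD, map_mul, hφP]; simp
    have hφEv : φ E = 1 + φ x * φ (φ x) + φ x * φ x * φ (φ x) := by rw [hEdef]; simp
    have hT : φ P * P * ((φ D + φ E) * (D + E)) + φ E * E * (φ (1 + P) * (1 + P)) =
        φ (1 + P) * (1 + P) * ((φ D + φ E) * (D + E)) := by
      rw [← hφE, ← hE]
      simp only [Pair, map_add, map_one] at hpair
      simp only [map_add, map_one]
      linear_combination (φ D * D) * hpair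
    rw [map_add φ 1 P, map_one φ, hφP, hφD, hφEv, hD, hEdef, hPdef] at hT
    refine (mul_eq_zero.1 (?_ : (x * φ x * (1 + x * φ x)) * _ = 0)).resolve_left
      (mul_ne_zero (mul_ne_zero hx hy) (by rw [mul_comm x]; exact hG.add_ne (hG.nm_ne_one hx1)))
    rw [hEdef]
    generalize φ.symm x = u, φ (φ x) = z at hT ⊢
    generalize φ x = y at hT ⊢
    linear_combination hT - (-4 + -4*y*z + -1*y^2*z + -8*x*y + -8*x*y^2*z + -1*x*y^3*z + -4*x*u + -4*x*u*y*z + -2*x*u*y^2*z + -1*x^2*y + -5*x^2*y^2 + -1*x^2*y^2*z + -5*x^2*y^3*z + -7*x^2*u*y + -7*x^2*u*y^2*z + -2*x^2*u*y^3*z + -1*x^2*u^2 + -1*x^2*u^2*y*z + -1*x^2*u^2*y^2*z + -2*x^3*y^2 + -1*x^3*y^3 + -2*x^3*y^3*z + -1*x^3*y^4*z + -4*x^3*u*y^2 + -3*x^3*u*y^3*z + -2*x^3*u^2*y + -2*x^3*u^2*y^2*z + -1*x^3*u^2*y^3*z + -2*x^4*y^3 + -1*x^4*y^4*z + -1*x^4*u*y^3 + -2*x^4*u^2*y^2 + -1*x^4*u^2*y^3*z + -1*x^5*y^3 + -1*x^5*y^4 + -1*x^5*u^2*y^2 + -1*x^5*u^2*y^3 + -1*x^6*y^4 + -1*x^6*u^2*y^3) * two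

/-- The twist squares to the Frobenius map. -/
theorem twist_sq (x : F) : φ (φ x) = x * x := by
  have two := hG.two
  suffices h : ∀ w : F, w ≠ 0 → w ≠ 1 → φ w + φ.symm w * φ.symm w = 0 by
    rcases eq_or_ne x 0 with rfl | hx
    · simp
    rcases eq_or_ne x 1 with rfl | hx1
    · simp
    have h' := congrArg φ (hG.eq_of_add (h x hx hx1))
    rwa [map_mul, φ.apply_symm_apply] at h'
  intro x hx hx1
  have hxi : x⁻¹ ≠ 0 := inv_ne_zero hx
  have hu : φ.symm x ≠ 0 := (map_ne_zero φ.symm).2 hx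
  have hy : φ x ≠ 0 := (map_ne_zero φ).2 hx
  have hz : φ (φ x) ≠ 0 := (map_ne_zero φ).2 hy
  rcases twist_key hG hR hr hx hx1 with h | h
  · exact h
  rcases twist_key hG hR hr hxi (fun e => hx1 (inv_eq_one.1 e)) with h' | h'
  · simp only [map_inv₀] at h'
    field_simp at h'
    linear_combination h'
  · simp only [map_inv₀] at h'
    by_contra hne
    have hne' : x * x * (x * x + x + 1) * (1 + φ (φ x) * φ x) * (φ x + φ.symm x * φ.symm x) ≠ 0 := by
      refine mul_ne_zero (mul_ne_zero (mul_ne_zero (mul_ne_zero hx hx) ?_) ?_) hne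
      · intro e; exact hx1 (hG.cube x (by linear_combination (x - 1) * e))
      · have := hG.add_ne (hG.nm_ne_one (x := φ x) fun e => hx1 (φ.injective (by rw [e, map_one])))
        simpa [nm] using this
    have hH : (φ x + φ.symm x * φ.symm x) * φ (φ x) * (x * x * φ x + x + 1) +
        (φ (φ x) + x * x) * ((x + 1) * (φ x + φ.symm x * φ.symm x) + x * x * φ x * φ.symm x) = 0 := by
      generalize φ.symm x = u, φ (φ x) = z at h' hu hz ⊢
      generalize φ x = y at h' hy ⊢
      field_simp at h'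
      linear_combination h'
    apply hne'
    generalize φ.symm x = u, φ (φ x) = z at h hH ⊢
    generalize φ x = y at h hH ⊢
    linear_combination x * x * h + hH - (y*z + u^2*z + x*y*z + x*u^2*z + x^2*u*y*z + x^4*u*y + x^5*y^2 + x^5*u^2*y + x^6*y^2 + x^6*u^2*y) * two

end CfsgLib.Recog.SzIso
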