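import Cfsg.Agent.Lib.Recog.SzIso.Core

/-!
The swapping involution with fixed point `(1, 1)` is unique.
-/

set_option autoImplicit false

namespace CfsgLib.Recog.SzIso

variable {F : Type*} [Field F] [Finite F] {φ : F ≃+* F}

theorem partner_unique (hG : Good φ) {P P' P'' : F} (hP : P ≠ 1) (h1 : P' ≠ 1) (h2 : P'' ≠ 1)
    (h : Pair φ P P') (h' : Pair φ P P'') : P' = P'' := by
  have hA : nm φ (1 + P) ≠ 0 := nm_ne (hG.add_ne hP)
  have hB : nm φ (1 + P') ≠ 0 := nm_ne (hG.add_ne h1)
  have hC : nm φ (1 + P'') ≠ 0 := nm_ne (hG.add_ne h2)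
  have key : nm φ (1 + P) * (nm φ P' * nm φ (1 + P'') - nm φ P'' * nm φ (1 + P')) = 0 := by
    unfold Pair at h h'
    simp only [nm]
    linear_combination (φ (1 + P'') * (1 + P'')) * h - (φ (1 + P') * (1 + P')) * h'
  have hd : nm φ (P' / (1 + P')) = nm φ (P'' / (1 + P'')) := by
    rw [div_eq_mul_inv, div_eq_mul_inv, nm_mul, nm_mul, nm_inv, nm_inv, ← div_eq_mul_inv,
      ← div_eq_mul_inv, div_eq_div_iff hB hC]
    exact sub_eq_zero.1 ((mul_eq_zero.1 key).resolve_left hA)
  have e : P' / (1 + P') = P'' / (1 + P'') := hG.nm_inj _ _ hd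
  rw [div_eq_div_iff (hG.add_ne h1) (hG.add_ne h2)] at e
  linear_combination e

/-- Two swapping maps with the fixed point `(1, 1)` coincide. -/
theorem rel_unique (hG : Good φ) {W W' : Option (F × F) → Option (F × F)}
    (h : Rel φ W (lp φ 1 1)) (h' : Rel φ W' (lp φ 1 1)) : W = W' := by
  funext p
  rcases p with _ | ⟨a, b⟩
  · rw [h.swap, h'.swap]
  by_cases ha : a = 0
  · subst ha
    by_cases hb : b = 0
    · subst hb
      exact h.zero.trans h'.zero.symm
    obtain ⟨s, rfl⟩ := hG.nm_surj b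
    have hs : s ≠ 0 := fun e => hb (by rw [e, nm_zero])
    rw [h.image_center hs, h'.image_center hs]
  rw [eq_lp (φ := φ) (a, b) ha]
  set R := b / nm φ a with hR
  clear_value R
  have hiv : iv φ (lp φ 1 1) = lp φ 1 0 := by rw [hG.iv_lp, hG.add_self]
  by_cases hR0 : R = 0
  · subst hR0
    have key : ∀ {V : Option (F × F) → Option (F × F)}, Rel φ V (lp φ 1 1) →
        V (some (lp φ a 0)) = some (hh φ a⁻¹ zed) := fun {V} hV => by
      have e : V (some (iv φ (lp φ 1 1))) = some zed := by rw [← hV.image_z, hV.invol]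
      have := hV.scale ha e
      rwa [hiv, hh_lp, mul_one] at this
    rw [key h, key h']
  by_cases hR1 : R = 1
  · subst hR1
    have key : ∀ {V : Option (F × F) → Option (F × F)}, Rel φ V (lp φ 1 1) →
        V (some (lp φ a 1)) = some (lp φ a⁻¹ 1) := fun {V} hV => by
      simpa [hh_lp] using hV.scale ha hV.fixed
    rw [key h, key h']
  have hr : ∀ x : F, ((1 : F) + 1) * (φ x + x) = 0 := fun x => by rw [hG.add_self, zero_mul]
  have hP0 : φ.symm R ≠ 0 := (map_ne_zero φ.symm).2 hR0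
  have hP1 : φ.symm R ≠ 1 := fun e => hR1 (φ.symm.injective (by rw [e, map_one]))
  obtain ⟨P', -, h1, hp, hi⟩ := label_image' hG h one_ne_zero hr hP0 hP1
  obtain ⟨P'', -, h2, hp', hi'⟩ := label_image' hG h' one_ne_zero hr hP0 hP1
  obtain rfl := partner_unique hG hP1 h1 h2 hp hp'
  have e1 := hi a ha
  have e2 := hi' a ha
  rw [hG.add_self, zero_add, φ.apply_symm_apply] at e1 e2
  exact e1.trans e2.symm

end CfsgLib.Recog.SzIso
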