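import Cfsg.Agent.Lib.Recog.SzIso.Fixed
import Cfsg.Agent.Lib.Recog.SzIso.Twist
import Cfsg.Agent.Lib.Recog.SzIso.Uniq
import Cfsg.Agent.Lib.Recog.SzIso.Model
import Cfsg.Agent.Lib.Chev.Field.AutSpan

/-!
The permutation group with the relations is the Suzuki group, over fields of order `2 ^ n`, `n` odd.
-/

set_option autoImplicit false

namespace CfsgLib.Recog.SzIso

open CfsgLib.KnownA.Suzuki Cfsg.Lie

variable {F : Type*} [Field F] [Fintype F] {n : ℕ}

theorem two_eq_zero (hn : n ≠ 0) (hF : Fintype.card F = 2 ^ n) : (2 : F) = 0 := by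
  have h := FiniteField.cast_card_eq_zero F
  rw [hF, Nat.cast_pow] at h
  simpa using (pow_eq_zero_iff hn).1 h

theorem card_ringAut (hn : n ≠ 0) (hF : Fintype.card F = 2 ^ n) : Nat.card (F ≃+* F) = n := by
  have := CharTwo.of_one_ne_zero_of_two_eq_zero (one_ne_zero (α := F)) (two_eq_zero hn hF)
  let _ := ZMod.algebra F 2
  rw [CfsgLib.Chev.Field.card_aut]
  have h := Module.natCard_eq_pow_finrank (K := ZMod 2) (V := F)
  rw [Nat.card_zmod, Nat.card_eq_fintype_card, hF] at h
  exact (Nat.pow_right_injective le_rfl h).symm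

theorem iterate_aut (hn : n ≠ 0) (hF : Fintype.card F = 2 ^ n) (φ : F ≃+* F) (x : F) :
    φ^[n] x = x := by
  have h : φ ^ n = 1 := by rw [← card_ringAut hn hF]; exact pow_card_eq_one'
  have := DFunLike.congr_fun h x
  rwa [RingAut.coe_pow] at this

theorem good_of_card (hn : n ≠ 0) (hodd : Odd n) (hF : Fintype.card F = 2 ^ n) {φ : F ≃+* F}
    (hinj : ∀ x y : F, φ x * x = φ y * y → x = y) : Good φ := by
  have two := two_eq_zero hn hF
  have hq : ∀ x : F, x ^ (2 ^ n) = x := fun x => hF ▸ FiniteField.pow_card x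
  refine ⟨two, hinj, fun x hx => ?_, fun x hx => ?_⟩
  · have hx0 : x ≠ 0 := by rintro rfl; simp at hx
    have h1 : φ x = x ^ (-2 : ℤ) := by
      rw [zpow_neg, zpow_two]
      exact eq_inv_of_mul_eq_one_left (by rw [← mul_assoc]; exact hx)
    have h2 : ∀ j : ℕ, φ^[j] x = x ^ ((-2 : ℤ) ^ j) := by
      intro j
      induction j with
      | zero => simp
      | succ j ih => rw [Function.iterate_succ_apply', ih, map_zpow₀, h1, ← zpow_mul, pow_succ']
    have h3 := h2 n
    rw [iterate_aut hn hF φ x, hodd.neg_pow, zpow_neg, show ((2 : ℤ) ^ n) = ((2 ^ n : ℕ) : ℤ) by simp,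
      zpow_natCast, hq] at h3
    have h4 : (x - 1) * (x - 1) = 0 := by
      linear_combination (mul_inv_cancel₀ hx0) + x * h3 - (x - 1) * two
    exact sub_eq_zero.1 (mul_self_eq_zero.1 h4)
  · obtain ⟨k, rfl⟩ := hodd
    have h := hq x
    have h' : ∀ i : ℕ, x ^ (4 ^ i) = x := by
      intro i
      induction i with
      | zero => simp
      | succ i ih => rw [pow_succ, pow_mul, ih, pow_succ', hx, mul_one]
    rw [pow_succ, pow_mul, pow_mul, show (2 : ℕ) ^ 2 = 4 by norm_num, h'] at h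
    have hx0 : x ≠ 0 := by rintro rfl; simp at hx
    exact mul_left_cancel₀ hx0 (by rw [mul_one, ← pow_two, h])

theorem twist_eq_powE {m : ℕ} (hF : Fintype.card F = 2 ^ (2 * m + 1))
    {φ : F ≃+* F} (h : ∀ x : F, φ (φ x) = x * x) :
    φ = powE (titsField_of_card hF) := by
  have hit : ∀ (j : ℕ) (x : F), φ^[2 * j] x = x ^ (2 ^ j) := by
    intro j
    induction j with
    | zero => intro x; simp
    | succ j ih =>
      intro x
      rw [show 2 * (j + 1) = 2 * j + 1 + 1 by ring, Function.iterate_succ_apply,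
        Function.iterate_succ_apply, h, ih, ← pow_two, ← pow_mul, ← pow_succ']
  refine RingEquiv.ext fun x => ?_
  rw [powE_apply, ← hit, show 2 * (m + 1) = 2 * m + 1 + 1 by ring, Function.iterate_succ_apply,
    iterate_aut (Nat.succ_ne_zero _) hF φ]

theorem aux_model {m : ℕ} (hF : Fintype.card F = 2 ^ (2 * m + 1))
    {φ : F ≃+* F} (hG : Good φ) {a₀ : F} (ha₀ : a₀ ≠ 0)
    (W : Equiv.Perm (Option (F × F))) (hR : Rel φ W (lp φ a₀ 1)) :
    Nonempty (Gen φ W ≃* Sz F (2 ^ (m + 1))) := by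
  have hr : ∀ x : F, ((1 : F) + 1) * (φ x + x) = 0 := fun x => by rw [hG.add_self, zero_mul]
  obtain rfl := fst_eq_one hG hR ha₀ hr
  have hφ := twist_eq_powE hF (twist_sq hG hR hr)
  obtain ⟨W', hR', ⟨iso⟩⟩ := exists_model (titsField_of_card hF)
  rw [← hφ] at hR' iso
  obtain rfl : W = W' := Equiv.coe_fn_injective (rel_unique hG hR hR')
  exact ⟨iso.symm⟩

/-- The group generated by translations, torus and a swapping involution with the relations is
the Suzuki group. -/
theorem gen_iso_Sz {m : ℕ} (hF : Fintype.card F = 2 ^ (2 * m + 1))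
    {φ : F ≃+* F} (hinj : ∀ x y : F, φ x * x = φ y * y → x = y) {u : F × F} (hu : u.1 ≠ 0)
    (W : Equiv.Perm (Option (F × F))) (hR : Rel φ W u) :
    Nonempty (Gen φ W ≃* Sz F (2 ^ (m + 1))) := by
  have hn : 2 * m + 1 ≠ 0 := Nat.succ_ne_zero _
  have hG := good_of_card hn (odd_two_mul_add_one m) hF hinj
  set r := u.2 / nm φ u.1 with hrdef
  have hu' : u = lp φ u.1 r := eq_lp u hu
  rw [hu'] at hR
  rcases slope_cases hG hR hu (fixed_trivial hG hR hu) with h | h
  · have hR' := rel_flip hG.neg_eq hR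
    rw [flip_lp hG.neg_eq, h, zero_add] at hR'
    obtain ⟨i⟩ := gen_flip hG.neg_eq (φ := φ) W
    have hG' := good_of_card hn (odd_two_mul_add_one m) hF (φ := φ.symm) fun x y e => by
      apply φ.symm.injective
      refine hinj _ _ ?_
      rw [φ.apply_symm_apply, φ.apply_symm_apply, mul_comm, e, mul_comm]
    obtain ⟨j⟩ := aux_model hF hG' ((map_ne_zero φ).2 hu) _ hR'
    exact ⟨i.trans j⟩
  · rw [h] at hR
    exact aux_model hF hG hu W hR

end CfsgLib.Recog.SzIso
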