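import Cfsg.Agent.Lib.Recog.CIT.Defs
import Cfsg.Agent.Lib.Recog.SzIso.Coord
import Cfsg.Agent.Lib.Recog.SzIso.Main

/-!
A simple group with the strongly embedded structure and a Sylow `2`-subgroup of order `q ^ 2` is
the Suzuki group, for `q = 2 ^ n`, `n` odd.
-/

set_option autoImplicit false

namespace CfsgLib.Recog.SzIso

open CfsgLib.Recog.CIT (SEData)

variable {G : Type*} [Group G] [Finite G] {S D : Subgroup G} {q : ℕ}

theorem sedata_conj_mem (h : SEData G S D q) {g s : G} (hg : g ∈ Subgroup.normalizer (S : Set G))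
    (hs : s ∈ S) : g * s * g⁻¹ ∈ S :=
  (Subgroup.mem_normalizer_iff.1 hg s).1 hs

theorem eq_one_of_conj (h : SEData G S D q) {w u : G} (hw : w ∉ Subgroup.normalizer (S : Set G))
    (hu : u ∈ S) (hc : w⁻¹ * u * w ∈ Subgroup.normalizer (S : Set G)) : u = 1 := by
  have hm : u ∈ Subgroup.normalizer (S : Set G) ⊓
      (Subgroup.normalizer (S : Set G)).map (MulAut.conj w).toMonoidHom := by
    refine ⟨Subgroup.le_normalizer hu, w⁻¹ * u * w, hc, ?_⟩
    show w * (w⁻¹ * u * w) * w⁻¹ = u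
    group
  have hodd := (h.se.2.2 w hw).of_dvd_nat (Subgroup.orderOf_dvd_natCard _ hm)
  obtain ⟨k, hk⟩ := h.isP ⟨u, hu⟩
  have hk' : u ^ 2 ^ k = 1 := congrArg Subtype.val hk
  exact orderOf_eq_one_iff.1 (Nat.eq_one_of_dvd_coprimes
    ((Nat.coprime_two_left.2 hodd).pow_left k) (orderOf_dvd_of_pow_eq_one hk') dvd_rfl)

theorem mem_of_sq (h : SEData G S D q) {x : G} (hx : x * x = 1)
    (hn : x ∈ Subgroup.normalizer (S : Set G)) : x ∈ S := by
  have h2 : IsPGroup 2 (Subgroup.zpowers x) := by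
    haveI := Fact.mk Nat.prime_two
    obtain ⟨i, -, hi⟩ := (Nat.dvd_prime_pow Nat.prime_two (m := 1)).1
      (show orderOf x ∣ 2 ^ 1 from orderOf_dvd_of_pow_eq_one (by rw [pow_one, pow_two]; exact hx))
    exact IsPGroup.of_card (n := i) (by rw [Nat.card_zpowers, hi])
  have hP := h2.to_sup_of_normal_right' h.isP (Subgroup.zpowers_le.2 hn)
  rw [← h.maxP _ hP le_sup_right]
  exact Subgroup.mem_sup_left (Subgroup.mem_zpowers x)

theorem norm_eq (h : SEData G S D q) {g : G} (hg : g ∈ Subgroup.normalizer (S : Set G)) :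
    ∃ s ∈ S, ∃ d ∈ D, g = s * d := by
  have hcop : Nat.Coprime (Nat.card S) (Nat.card D) := by
    haveI := Fact.mk Nat.prime_two
    obtain ⟨k, hk⟩ := IsPGroup.iff_card.1 h.isP
    obtain ⟨n, rfl⟩ := h.isPow
    rw [hk, h.card_D]
    refine Nat.Coprime.pow_left _ (Nat.coprime_two_left.2 ?_)
    have := h.four_le
    exact Nat.Even.sub_odd (by omega) ((Nat.even_pow).2 ⟨even_two, by rintro rfl; omega⟩) odd_one
  let f : S × D → ↥(Subgroup.normalizer (S : Set G)) := fun p =>
    ⟨p.1 * p.2, mul_mem (Subgroup.le_normalizer p.1.2) (h.le_norm p.2.2)⟩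
  have hinj : Function.Injective f := by
    rintro ⟨⟨s, hs⟩, ⟨d, hd⟩⟩ ⟨⟨s', hs'⟩, ⟨d', hd'⟩⟩ e
    have e' : s * d = s' * d' := congrArg Subtype.val e
    have e1 : s'⁻¹ * s = d' * d⁻¹ := by
      rw [eq_mul_inv_iff_mul_eq, mul_assoc, e', inv_mul_cancel_left]
    have h1 : s'⁻¹ * s = 1 := by
      have hm : s'⁻¹ * s ∈ S ⊓ D :=
        ⟨S.mul_mem (S.inv_mem hs') hs, e1 ▸ D.mul_mem hd' (D.inv_mem hd)⟩
      rw [Subgroup.inf_eq_bot_of_coprime hcop] at hm
      exact Subgroup.mem_bot.1 hm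
    obtain rfl := inv_mul_eq_one.1 h1
    obtain rfl := mul_left_cancel e'
    rfl
  obtain ⟨⟨s, d⟩, hsd⟩ := ((Nat.bijective_iff_injective_and_card f).2
    ⟨hinj, by rw [Nat.card_prod, h.card_norm, h.card_D]⟩).2 ⟨g, hg⟩
  exact ⟨s, s.2, d, d.2, (congrArg Subtype.val hsd).symm⟩

theorem no_order_three {m : ℕ} (hq : q = 2 ^ (2 * m + 1)) :
    ¬ 3 ∣ (q ^ 2 + 1) * q ^ 2 * (q - 1) := by
  have h : q % 3 = 2 := by
    subst hq
    rw [pow_succ, pow_mul, Nat.mul_mod, Nat.pow_mod]
    norm_num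
  have hq1 : (q - 1) % 3 = 1 := by omega
  intro h3
  have := Nat.mod_eq_zero_of_dvd h3
  simp [Nat.mul_mod, Nat.add_mod, Nat.pow_mod, h, hq1] at this

/-- **Recognition of the Suzuki groups** over fields of order `2 ^ n`, `n` odd. -/
theorem iso_Sz_of_SEData_odd [IsSimpleGroup G] (h : SEData G S D q) (hS : Nat.card S = q ^ 2) {m : ℕ}
    (hq : q = 2 ^ (2 * m + 1)) (F : Type*) [Field F] [Fintype F]
    (hF : Fintype.card F = q) : Nonempty (G ≃* Cfsg.Lie.Sz F (2 ^ (m + 1))) := by
  classical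
  haveI := CharTwo.of_one_ne_zero_of_two_eq_zero (one_ne_zero (α := F))
    (two_eq_zero (Nat.succ_ne_zero (2 * m)) (hF.trans hq))
  have hG3 : ∀ g : G, g ^ 3 = 1 → g = 1 := fun g hg => by
    rcases (Nat.dvd_prime Nat.prime_three).1 (orderOf_dvd_of_pow_eq_one hg) with e | e
    · exact orderOf_eq_one_iff.1 e
    · have hd := orderOf_dvd_natCard g
      rw [e, h.card_G, hS] at hd
      exact absurd hd (no_order_three hq)
  obtain ⟨w, hw, hwN, hwinv⟩ := h.inverter
  have hww : w * w = 1 := by rw [← pow_two, ← hw, pow_orderOf_eq_one]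
  have hwi : w⁻¹ = w := inv_eq_of_mul_eq_one_right hww
  haveI := h.cyclic_D
  obtain ⟨⟨d₀, hd₀⟩, hgen⟩ := IsCyclic.exists_generator (α := D)
  have hpow : ∀ d ∈ D, ∃ i : ℕ, d = d₀ ^ i := fun d hd => by
    obtain ⟨i, hi⟩ := mem_powers_iff_mem_zpowers.2 (hgen ⟨d, hd⟩)
    exact ⟨i, (congrArg Subtype.val hi).symm⟩
  have hd₀n : d₀ ∈ Subgroup.normalizer (S : Set G) := h.le_norm hd₀
  let k : MulAut S :=
    { toFun := fun x => ⟨d₀ * x * d₀⁻¹, sedata_conj_mem h hd₀n x.2⟩
      invFun := fun x => ⟨d₀⁻¹ * x * d₀, by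
        simpa using sedata_conj_mem h (inv_mem hd₀n) x.2⟩
      left_inv := fun x => Subtype.ext (by simp [mul_assoc])
      right_inv := fun x => Subtype.ext (by simp [mul_assoc])
      map_mul' := fun x y => Subtype.ext (by simp [mul_assoc]) }
  have hkpow : ∀ (i : ℕ) (x : S), (((k ^ i) x : S) : G) = d₀ ^ i * x * (d₀ ^ i)⁻¹ := by
    intro i
    induction i with
    | zero => intro x; simp
    | succ i ih =>
      intro x
      rw [CfsgLib.Chev.Suz2.pow_apply_succ]
      show d₀ * _ * d₀⁻¹ = _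
      rw [ih, pow_succ']
      group
  have hk : CfsgLib.Chev.Suz2.Trans k := by
    intro x y hx hxx hy hyy
    have ho : ∀ z : S, z ≠ 1 → z * z = 1 → orderOf (z : G) = 2 := fun z hz hzz =>
      orderOf_eq_prime (by rw [pow_two]; exact congrArg Subtype.val hzz) (fun e => hz (Subtype.ext e))
    obtain ⟨d, hd, hdt⟩ := h.trans x x.2 y y.2 (ho x hx hxx) (ho y hy hyy)
    obtain ⟨i, rfl⟩ := hpow d hd
    exact ⟨i, Subtype.ext (by rw [hkpow, hdt])⟩
  have hkq : k ^ (Fintype.card F - 1) = 1 := MulEquiv.ext fun x => Subtype.ext (by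
    have : d₀ ^ (Fintype.card F - 1) = 1 := by
      rw [hF, ← h.card_D]
      exact congrArg Subtype.val (pow_card_eq_one' (x := (⟨d₀, hd₀⟩ : D)))
    rw [hkpow, this]
    simp)
  have hcen : ∀ t : S, t * t = 1 → ∀ s : S, s * t = t * s := fun t ht s =>
    Subtype.ext (h.central t t.2 (congrArg Subtype.val ht) s s.2)
  have hinv : Nat.card {t : S // t * t = 1} = Fintype.card F := by
    let e : Option {t : G // t ∈ S ∧ orderOf t = 2} → {t : S // t * t = 1} := fun o => match o with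
      | none => ⟨1, one_mul 1⟩
      | some t => ⟨⟨t.1, t.2.1⟩, Subtype.ext (by
          show t.1 * t.1 = 1
          have h2 := pow_orderOf_eq_one t.1
          rwa [t.2.2, pow_two] at h2)⟩
    have he : Function.Bijective e := by
      refine ⟨?_, fun t => ?_⟩
      · rintro (_ | ⟨t, ht⟩) (_ | ⟨t', ht'⟩) e'
        · rfl
        · exfalso
          have e'' : (1 : G) = t' := congrArg (fun z => z.1.1) e'
          have := ht'.2
          rw [← e'', orderOf_one] at this
          omega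
        · exfalso
          have e'' : t = (1 : G) := congrArg (fun z => z.1.1) e'
          have := ht.2
          rw [e'', orderOf_one] at this
          omega
        · have e'' : t = t' := congrArg (fun z => z.1.1) e'
          subst e''
          rfl
      · by_cases ht : t.1 = 1
        · exact ⟨none, Subtype.ext ht.symm⟩
        · exact ⟨some ⟨t.1.1, t.1.2, orderOf_eq_prime (by
            rw [pow_two]; exact congrArg Subtype.val t.2) (fun e'' => ht (Subtype.ext e''))⟩, rfl⟩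
    rw [← Nat.card_eq_of_bijective e he, Finite.card_option, h.card_invol, hF]
    have := h.four_le
    omega
  obtain ⟨φ, c, e₀, he₀, hek, hc, hninj⟩ :=
    exists_coords h.isP k hk hkq hcen hinv (by rw [hS, hF])
  have hc0 : c ≠ 0 := by
    rintro rfl
    obtain ⟨j, hj⟩ := hc 1 one_ne_zero
    have := h.four_le
    obtain ⟨y, hy, hy1⟩ : ∃ y : F, y ≠ 0 ∧ y ≠ 1 := by
      obtain ⟨y, hy⟩ : ∃ y, y ∉ ({0, 1} : Finset F) := by
        by_contra hne
        push Not at hne
        have h1 := Finset.card_le_card (fun y _ => hne y : (Finset.univ : Finset F) ⊆ {0, 1})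
        have h2 := Finset.card_le_two (a := (0 : F)) (b := 1)
        rw [Finset.card_univ] at h1
        omega
      simp only [Finset.mem_insert, Finset.mem_singleton, not_or] at hy
      exact ⟨y, hy⟩
    obtain ⟨i, hi⟩ := hc y hy
    rcases i with _ | i
    · exact hy1 (by simpa using hi)
    · exact hy (by simpa using hi)
  have hei : ∀ (i : ℕ) (x : S), e₀ ((k ^ i) x) = hh φ (c ^ i) (e₀ x) := by
    intro i
    induction i with
    | zero => intro x; simp [hh_one]
    | succ i ih => intro x; rw [CfsgLib.Chev.Suz2.pow_apply_succ, hek, ih, hh_hh, pow_succ']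
  -- the points
  set N := Subgroup.normalizer (S : Set G) with hNdef
  have hptinj : Function.Injective (fun o : Option S => match o with
      | none => ((1 : G) : G ⧸ N)
      | some u => (((u : G) * w : G) : G ⧸ N)) := by
    rintro (_ | u) (_ | v) e
    · rfl
    · exfalso
      have e' : (1 : G)⁻¹ * ((v : G) * w) ∈ N := QuotientGroup.eq.1 e
      rw [inv_one, one_mul] at e'
      exact hwN ((Subgroup.mul_mem_cancel_left N (Subgroup.le_normalizer v.2)).1 e')
    · exfalso
      have e' : (1 : G)⁻¹ * ((u : G) * w) ∈ N := QuotientGroup.eq.1 e.symm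
      rw [inv_one, one_mul] at e'
      exact hwN ((Subgroup.mul_mem_cancel_left N (Subgroup.le_normalizer u.2)).1 e')
    · have e' : ((u : G) * w)⁻¹ * ((v : G) * w) ∈ N := QuotientGroup.eq.1 e
      have h1 := eq_one_of_conj h hwN (mul_mem (inv_mem u.2) v.2) (by
        simpa [mul_assoc] using e')
      rw [Subtype.ext (inv_mul_eq_one.1 h1)]
  have hindex : Nat.card (G ⧸ N) = Nat.card (Option S) := by
    rw [Finite.card_option]
    have h1 := Subgroup.card_eq_card_quotient_mul_card_subgroup N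
    rw [h.card_G, hNdef, h.card_norm, mul_assoc] at h1
    refine (Nat.eq_of_mul_eq_mul_right ?_ h1).symm
    exact Nat.mul_pos Nat.card_pos (by have := h.four_le; omega)
  let pt := Equiv.ofBijective _ ((Nat.bijective_iff_injective_and_card _).2 ⟨hptinj, hindex.symm⟩)
  have hpn : pt none = ((1 : G) : G ⧸ N) := rfl
  have hps : ∀ u : S, pt (some u) = (((u : G) * w : G) : G ⧸ N) := fun u => rfl
  have hone : pt (some 1) = ((w : G) : G ⧸ N) := by rw [hps, OneMemClass.coe_one, one_mul]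
  -- the fixed point of the inverter
  obtain ⟨o, ho⟩ : ∃ o : Option S, pt.symm (w • pt o) = o := by
    haveI := Fact.mk Nat.prime_two
    haveI := Fintype.ofFinite (Option S)
    let σ : Equiv.Perm (Option S) :=
      ⟨fun o => pt.symm (w • pt o), fun o => pt.symm (w • pt o),
        fun o => by simp [← mul_smul, hww], fun o => by simp [← mul_smul, hww]⟩
    refine Equiv.Perm.exists_fixed_point_of_prime (p := 2) (n := 1) ?_ (σ := σ) ?_
    · rw [← Nat.card_eq_fintype_card, Finite.card_option, hS, hq, ← even_iff_two_dvd,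
        Nat.even_add_one, not_not, Nat.even_pow]
      exact ⟨(Nat.even_pow).2 ⟨even_two, by omega⟩, two_ne_zero⟩
    · refine Equiv.ext fun o => ?_
      simp [σ, pow_two, ← mul_smul, hww]
  rw [Equiv.symm_apply_eq] at ho
  rcases o with _ | u₀
  · exfalso
    rw [hpn] at ho
    have h2 : (w * 1)⁻¹ * (1 : G) ∈ N := QuotientGroup.eq.1 ho
    exact hwN (by simpa using inv_mem h2)
  rw [hps] at ho
  have hzN : ((u₀ : G) * w)⁻¹ * w * ((u₀ : G) * w) ∈ N := by
    have h2 := QuotientGroup.eq.1 (show ((w * ((u₀ : G) * w) : G) : G ⧸ N) = (((u₀ : G) * w : G) : G ⧸ N) from ho)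
    simpa [mul_assoc, mul_inv_rev, hwi] using h2
  set zG := ((u₀ : G) * w)⁻¹ * w * ((u₀ : G) * w) with hzG
  have hzz : zG * zG = 1 := by
    rw [show zG * zG = ((u₀ : G) * w)⁻¹ * (w * w) * ((u₀ : G) * w) by rw [hzG]; group, hww, mul_one,
      inv_mul_cancel]
  have hz1 : zG ≠ 1 := fun e => by
    have h1 : ((u₀ : G) * w) * zG * ((u₀ : G) * w)⁻¹ = w := by rw [hzG]; group
    rw [e, mul_one, mul_inv_cancel] at h1
    exact hwN (h1 ▸ one_mem _)
  have hzS : zG ∈ S := mem_of_sq h hzz hzN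
  have hbraid : (u₀ : G)⁻¹ * w * u₀ = w * zG * w := by
    rw [hzG, mul_inv_rev, hwi]
    simp [mul_assoc, hww, ← mul_assoc w w]
  -- normalise the coordinates
  obtain ⟨s, hs0, hs⟩ : ∃ s : F, s ≠ 0 ∧ e₀ ⟨zG, hzS⟩ = hh φ s zed := by
    have e1 : mu φ (e₀ ⟨zG, hzS⟩) (e₀ ⟨zG, hzS⟩) = e₀ 1 := by
      rw [← he₀]; exact congrArg e₀ (Subtype.ext hzz)
    have e0 : e₀ 1 = 0 := by
      have h' := he₀ 1 1
      rw [one_mul] at h'
      have := congrArg (mu φ (iv φ (e₀ 1))) h'
      rwa [iv_mu_cancel, iv_mu, eq_comm] at this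
    rw [e0] at e1
    rcases hp : e₀ ⟨zG, hzS⟩ with ⟨a, b⟩
    rw [hp] at e1
    simp only [mu, Prod.mk_eq_zero, CharTwo.add_self_eq_zero, zero_add, mul_eq_zero,
      map_eq_zero, or_self, true_and] at e1
    subst e1
    obtain ⟨s, rfl⟩ := Finite.surjective_of_injective (f := nm φ) (fun x y e => hninj x y e) b
    refine ⟨s, fun hs => hz1 ?_, by simp [hh, zed]⟩
    rw [hs, nm_zero] at hp
    exact congrArg Subtype.val (e₀.injective (hp.trans e0.symm))
  let e : S ≃ F × F := e₀.trans (scP φ (Units.mk0 s hs0)⁻¹)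
  have hedef : ∀ x, e x = hh φ s⁻¹ (e₀ x) := fun x => by simp [e, scP]
  have he : ∀ x y, e (x * y) = mu φ (e x) (e y) := fun x y => by
    rw [hedef, hedef, hedef, he₀, hh_mu]
  have hez : e ⟨zG, hzS⟩ = zed := by rw [hedef, hs, hh_hh, inv_mul_cancel₀ hs0, hh_one]
  have hek' : ∀ (i : ℕ) (x : S), e ((k ^ i) x) = hh φ (c ^ i) (e x) := fun i x => by
    rw [hedef, hedef, hei, hh_hh, hh_hh, mul_comm]
  have he1 : e 1 = 0 := by
    have h' := he 1 1
    rw [one_mul] at h'
    have := congrArg (mu φ (iv φ (e 1))) h'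
    rwa [iv_mu_cancel, iv_mu, eq_comm] at this
  have heinv : ∀ x, e x⁻¹ = iv φ (e x) := fun x => by
    have h' := he x⁻¹ x
    rw [inv_mul_cancel, he1] at h'
    have := congrArg (fun t => mu φ t (iv φ (e x))) h'
    simp only [zero_mu, mu_assoc, mu_iv, mu_zero] at this
    exact this.symm
  let Ω : Option (F × F) ≃ G ⧸ N := (Equiv.optionCongr e).symm.trans pt
  let ρ : G →* Equiv.Perm (Option (F × F)) :=
    Ω.symm.permCongrHom.toMonoidHom.comp (MulAction.toPermHom G (G ⧸ N))
  have hρ : ∀ g p p', g • Ω p = Ω p' → ρ g p = p' := fun g p p' hgp => by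
    show Ω.symm (g • Ω p) = p'
    rw [hgp, Equiv.symm_apply_apply]
  have hΩn : Ω none = ((1 : G) : G ⧸ N) := rfl
  have hΩs : ∀ x : F × F, Ω (some x) = (((e.symm x : G) * w : G) : G ⧸ N) := fun x => rfl
  have htr : ∀ u : S, ρ (u : G) = trO φ (e u) := fun u => Equiv.ext fun p => by
    refine hρ _ _ _ ?_
    rcases p with _ | x
    · rw [hΩn]
      refine (show (((u : G) * 1 : G) : G ⧸ N) = ((1 : G) : G ⧸ N) from QuotientGroup.eq.2 ?_)
      simpa using inv_mem (Subgroup.le_normalizer u.2)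
    · rw [hΩs, trO_apply, Option.map_some, hΩs]
      show ((((u : G) * ((e.symm x : G) * w)) : G) : G ⧸ N) = _
      rw [show e.symm (mu φ (e u) x) = u * e.symm x by
        apply e.injective; rw [he, e.apply_symm_apply, e.apply_symm_apply], Subgroup.coe_mul, mul_assoc]
  have hsc : ∀ (i : ℕ) (mm : Fˣ), (mm : F) = c ^ i → ρ (d₀ ^ i) = scO φ mm := fun i mm hmm =>
    Equiv.ext fun p => by
      refine hρ _ _ _ ?_
      have hdN : d₀ ^ i ∈ N := pow_mem hd₀n i
      rcases p with _ | x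
      · rw [hΩn]
        refine (show (((d₀ ^ i) * 1 : G) : G ⧸ N) = ((1 : G) : G ⧸ N) from QuotientGroup.eq.2 ?_)
        simpa using inv_mem hdN
      · rw [hΩs, scO_apply, Option.map_some, hΩs, hmm]
        have hx : e.symm (hh φ (c ^ i) x) = (k ^ i) (e.symm x) := by
          apply e.injective
          rw [hek', e.apply_symm_apply, e.apply_symm_apply]
        show ((((d₀ ^ i) * ((e.symm x : G) * w)) : G) : G ⧸ N) = _
        rw [hx, hkpow]
        refine QuotientGroup.eq.2 ?_
        have hwd : w * d₀ ^ i * w⁻¹ = (d₀ ^ i)⁻¹ := hwinv _ (pow_mem hd₀ i)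
        simp only [mul_inv_rev, mul_assoc, inv_mul_cancel_left]
        rw [hwi] at hwd ⊢
        rw [← mul_assoc w, ← hwd]
        simp only [mul_assoc, hww, mul_one, ← mul_assoc w w, one_mul]
        exact hdN
  have hscs : ∀ mm : Fˣ, ∃ i, (mm : F) = c ^ i := fun mm => hc _ mm.ne_zero
  set W := ρ w with hWdef
  have hswap : W none = some 0 := hρ _ _ _ (by
    rw [hΩn, hΩs, show e.symm 0 = 1 by rw [Equiv.symm_apply_eq, he1], OneMemClass.coe_one, one_mul]
    exact congrArg (fun g : G => (g : G ⧸ N)) (mul_one w))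
  have hR : Rel φ W (e u₀) := by
    refine ⟨hswap, fun p => ?_, fun mm hmm p => ?_, fun p => ?_⟩
    · rw [hWdef, ← Equiv.Perm.mul_apply, ← map_mul, hww, map_one]; rfl
    · obtain ⟨i, hi⟩ := hscs (Units.mk0 mm hmm)
      obtain ⟨j, hj⟩ := hscs (Units.mk0 mm hmm)⁻¹
      have hdd : d₀ ^ j = (d₀ ^ i)⁻¹ := by
        refine eq_inv_of_mul_eq_one_left ?_
        have h1 : ρ (d₀ ^ j * d₀ ^ i) = 1 := by
          rw [map_mul, hsc j _ hj, hsc i _ hi]
          refine Equiv.ext fun q => ?_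
          cases q <;> simp [scO_apply, hh_hh, hh_one, hmm]
        rw [← pow_add] at h1 ⊢
        rcases IsSimpleGroup.eq_bot_or_eq_top_of_normal ρ.ker inferInstance with hb | ht
        · exact (Subgroup.mem_bot.1 (hb ▸ (MonoidHom.mem_ker.2 h1)))
        · exfalso
          have hw1 : ρ w = 1 := MonoidHom.mem_ker.1 (ht ▸ Subgroup.mem_top w)
          rw [← hWdef] at hw1
          rw [hw1] at hswap
          simp at hswap
      have h3 : w * d₀ ^ i = d₀ ^ j * w := by
        rw [hdd, ← hwinv _ (pow_mem hd₀ i), mul_assoc, inv_mul_cancel, mul_one]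
      have := congrArg (fun g => ρ g p) h3
      simpa [map_mul, hsc i _ hi, hsc j _ hj, scO_apply, hWdef] using this
    · have h3 := congrArg (fun g => ρ g p) hbraid.symm
      have hu0i : ρ (u₀ : G)⁻¹ = trO φ (iv φ (e u₀)) := by
        rw [← heinv, ← htr]; rfl
      simp only [map_mul, hu0i, htr u₀, show ρ zG = trO φ zed by rw [← hez, ← htr]] at h3
      simpa [trO_apply, hWdef] using h3
  have hu : (e u₀).1 ≠ 0 := fun h0 => by
    have hu2 : mu φ (e u₀) (e u₀) = 0 := by
      simp [mu, h0, CharTwo.add_self_eq_zero]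
    have hiv : iv φ (e u₀) = e u₀ := by
      have := congrArg (mu φ (iv φ (e u₀))) hu2
      rwa [iv_mu_cancel, mu_zero, eq_comm] at this
    have hz := hR.image_z
    rw [hiv] at hz
    have huz : zed = e u₀ := Option.some_injective _ (hR.inj (hz.trans hR.fixed.symm))
    rw [← hez] at huz
    have huz' : (u₀ : G) = zG := congrArg Subtype.val (e.injective huz).symm
    have hb := hbraid
    rw [huz', inv_eq_of_mul_eq_one_right hzz] at hb
    have h3 : (w * zG) ^ 3 = 1 := by
      rw [pow_three, show w * zG * (w * zG * (w * zG)) = w * zG * w * (zG * w * zG) by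
        simp [mul_assoc], hb]
      simp [mul_assoc, ← mul_assoc w w, hww, ← mul_assoc zG zG, hzz]
    have := hG3 _ h3
    exact hwN (by
      rw [mul_eq_one_iff_eq_inv.1 this]
      exact inv_mem (Subgroup.le_normalizer hzS))
  obtain ⟨iso⟩ := gen_iso_Sz (hF.trans hq) hninj hu W hR
  have hinjρ : Function.Injective ρ := by
    rw [← MonoidHom.ker_eq_bot_iff]
    refine (IsSimpleGroup.eq_bot_or_eq_top_of_normal ρ.ker inferInstance).resolve_right fun ht => ?_
    have hw1 : ρ w = 1 := MonoidHom.mem_ker.1 (ht ▸ Subgroup.mem_top w)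
    rw [← hWdef] at hw1
    rw [hw1] at hswap
    simp at hswap
  refine ⟨((MonoidHom.ofInjective hinjρ).trans (MulEquiv.subgroupCongr ?_)).trans iso⟩
  refine le_antisymm ?_ ((Subgroup.closure_le _).2 ?_)
  · rintro _ ⟨g, rfl⟩
    have hS' : ∀ u : S, ρ (u : G) ∈ Gen φ W := fun u =>
      Subgroup.subset_closure (Or.inl (Or.inl ⟨e u, (htr u).symm⟩))
    have hD' : ∀ d ∈ D, ρ d ∈ Gen φ W := fun d hd => by
      obtain ⟨i, rfl⟩ := hpow d hd
      exact Subgroup.subset_closure (Or.inl (Or.inr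
        ⟨Units.mk0 (c ^ i) (pow_ne_zero _ hc0), (hsc i _ rfl).symm⟩))
    have hN' : ∀ x ∈ N, ρ x ∈ Gen φ W := fun x hx => by
      obtain ⟨a, ha, d, hd, rfl⟩ := norm_eq h hx
      rw [map_mul]
      exact mul_mem (hS' ⟨a, ha⟩) (hD' d hd)
    obtain ⟨o, ho⟩ := pt.surjective ((g : G) : G ⧸ N)
    rcases o with _ | u
    · rw [hpn] at ho
      exact hN' g (by simpa using QuotientGroup.eq.1 ho)
    · rw [hps] at ho
      have hx := QuotientGroup.eq.1 ho
      rw [show g = (u : G) * w * (((u : G) * w)⁻¹ * g) by group, map_mul, map_mul]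
      exact mul_mem (mul_mem (hS' u) (Subgroup.subset_closure (Or.inr rfl))) (hN' _ hx)
  · rintro g ((⟨x, rfl⟩ | ⟨mm, rfl⟩) | rfl)
    · exact ⟨(e.symm x : G), by rw [htr, e.apply_symm_apply]⟩
    · obtain ⟨i, hi⟩ := hscs mm
      exact ⟨_, hsc i mm hi⟩
    · exact ⟨w, rfl⟩

/-- Prime exponent case. -/
theorem iso_Sz_of_SEData [IsSimpleGroup G] (h : SEData G S D q) (hS : Nat.card S = q ^ 2) {m : ℕ}
    (hq : q = 2 ^ (2 * m + 1)) (_ : (2 * m + 1).Prime) (F : Type*) [Field F] [Fintype F]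
    (hF : Fintype.card F = q) : Nonempty (G ≃* Cfsg.Lie.Sz F (2 ^ (m + 1))) :=
  iso_Sz_of_SEData_odd h hS hq F hF

/-- The two groups of the classification of groups with all elements of prime power order. -/
theorem sz8_or_sz32 [IsSimpleGroup G] (h : SEData G S D q) (hS : Nat.card S = q ^ 2)
    (hq : q = 8 ∨ q = 32) :
    ∃ (F : Type) (_ : Field F) (_ : Fintype F),
      (Fintype.card F = 8 ∧ Nonempty (G ≃* ↥(Cfsg.Lie.Sz F 4))) ∨
        (Fintype.card F = 32 ∧ Nonempty (G ≃* ↥(Cfsg.Lie.Sz F 8))) := by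
  haveI := Fact.mk Nat.prime_two
  rcases hq with rfl | rfl
  · let i := Fintype.ofFinite (GaloisField 2 3)
    have hF : Fintype.card (GaloisField 2 3) = 8 := by
      rw [← Nat.card_eq_fintype_card, GaloisField.card 2 3 (by norm_num)]; norm_num
    exact ⟨GaloisField 2 3, inferInstance, i, Or.inl ⟨hF,
      iso_Sz_of_SEData h hS (m := 1) (by norm_num) (by norm_num) _ hF⟩⟩
  · let i := Fintype.ofFinite (GaloisField 2 5)
    have hF : Fintype.card (GaloisField 2 5) = 32 := by
      rw [← Nat.card_eq_fintype_card, GaloisField.card 2 5 (by norm_num)]; norm_num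
    exact ⟨GaloisField 2 5, inferInstance, i, Or.inr ⟨hF,
      iso_Sz_of_SEData h hS (m := 2) (by norm_num) (by norm_num) _ hF⟩⟩

end CfsgLib.Recog.SzIso

namespace CfsgLib.Recog.SzIso

open CfsgLib.Recog.CIT (SEData)

/-- Recognition as a member of the Suzuki family. -/
theorem isoSuzuki_of_SEData {G : Type*} [Group G] [Finite G] [IsSimpleGroup G] {S D : Subgroup G}
    {q : ℕ} (h : SEData G S D q) (hS : Nat.card S = q ^ 2) {m : ℕ} (hq : q = 2 ^ (2 * m + 1)) :
    Cfsg.Lie.IsoSuzuki G := by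
  haveI := Fact.mk Nat.prime_two
  let i := Fintype.ofFinite (GaloisField 2 (2 * m + 1))
  have hF : Fintype.card (GaloisField 2 (2 * m + 1)) = q := by
    rw [← Nat.card_eq_fintype_card, GaloisField.card 2 _ (by omega), hq]
  have hm : 1 ≤ m := by
    by_contra h0
    obtain rfl : m = 0 := by omega
    have := h.four_le
    rw [hq] at this
    omega
  exact ⟨GaloisField 2 (2 * m + 1), inferInstance, i, m, hm, hF.trans hq,
    iso_Sz_of_SEData_odd h hS hq _ hF⟩

end CfsgLib.Recog.SzIso
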