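import Cfsg.Agent.Lib.Recog.SzIso.Plane

/-!
The fixed point of the swapping involution is `(1, 1)` and the twist squares to the Frobenius map.
-/

set_option autoImplicit false

namespace CfsgLib.Recog.SzIso

variable {F : Type*} [Field F] {φ : F ≃+* F} {W : Option (F × F) → Option (F × F)}

/-- The pairing of parameters. -/
def Pair (φ : F ≃+* F) (P P' : F) : Prop :=
  φ P * P * (φ (1 + P') * (1 + P')) + φ P' * P' * (φ (1 + P) * (1 + P)) =
    φ (1 + P) * (1 + P) * (φ (1 + P') * (1 + P'))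

theorem exists_partner [Finite F] (hG : Good φ) {u : F × F} (hR : Rel φ W u) {p : F} (hp : p ≠ 0)
    (hp1 : p ≠ 1) :
    ∃ p' : F, p' ≠ 0 ∧ p' ≠ 1 ∧ nm φ p + nm φ p' = nm φ p * nm φ p' ∧
      W (some (mu φ u (hh φ p (iv φ u)))) = some (mu φ u (hh φ p' (iv φ u))) := by
  set N := nm φ p with hN
  have hN0 : N ≠ 0 := nm_ne hp
  obtain ⟨s', hs'⟩ := hG.nm_surj (1 + N⁻¹)
  have ht1 : N⁻¹ ≠ 1 := fun e => hG.nm_ne_one hp1 (inv_eq_one.1 e)
  have hs0 : s' ≠ 0 := by
    rintro rfl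
    exact hG.add_ne ht1 (by rw [← hs', nm_zero])
  refine ⟨s'⁻¹, inv_ne_zero hs0, fun e => ?_, ?_, ?_⟩
  · rw [inv_eq_one] at e
    rw [e, nm_one] at hs'
    exact inv_ne_zero hN0 (by linear_combination -hs')
  · have hN1 : 1 + N ≠ 0 := hG.add_ne (hG.nm_ne_one hp1)
    rw [nm_inv, hs', show (1 + N⁻¹)⁻¹ = N / (1 + N) from
      inv_eq_of_mul_eq_one_right (by field_simp; ring)]
    field_simp
    linear_combination hG.two
  · have h1 := hR.image_center (inv_ne_zero hp)
    rw [inv_inv] at h1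
    have h2 : W (some (hh φ p (iv φ u))) = some (0, nm φ p⁻¹) := by rw [← h1, hR.invol]
    rw [hR.step h2, show mu φ zed ((0 : F), nm φ p⁻¹) = (0, nm φ s') by
      simp [mu, zed, hs', nm_inv, hN], hR.image_center hs0, Option.map_some]

section Slope

variable [Finite F] (hG : Good φ) {a₀ r : F} (hR : Rel φ W (lp φ a₀ r)) (ha₀ : a₀ ≠ 0)
include hG hR ha₀

omit [Finite F] hR ha₀ in
theorem mu_step_eq {P : F} (hP : P ≠ 0) :
    mu φ (lp φ a₀ r) (hh φ ((1 + P) / P) (iv φ (lp φ a₀ r))) =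
      lp φ (a₀ / P) (r + 1 + (r * φ P + (r + 1) * P)) := by
  have hφP : φ P ≠ 0 := (map_ne_zero φ).2 hP
  rw [hG.iv_lp]
  simp only [mu, hh, lp, nm, map_div₀, map_add, map_one, Prod.mk.injEq]
  constructor
  · field_simp
    linear_combination a₀ * P * hG.two
  · field_simp
    ring_nf
    simp [hG.two]

theorem label_image {P : F} (hP : P ≠ 0) (hP1 : P ≠ 1) :
    ∃ P', P' ≠ 0 ∧ P' ≠ 1 ∧ Pair φ P P' ∧ ∀ a, a ≠ 0 →
      W (some (lp φ a (r + 1 + (r * φ P + (r + 1) * P)))) =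
        some (lp φ (a₀ ^ 2 / (P * P' * a)) (r + 1 + (r * φ P' + (r + 1) * P'))) := by
  have hp : (1 + P) / P ≠ 0 := div_ne_zero (hG.add_ne hP1) hP
  have hp1 : (1 + P) / P ≠ 1 := by rw [ne_eq, div_eq_one_iff_eq hP]; simp
  obtain ⟨p', hp'0, hp'1, hpair, hW⟩ := exists_partner hG hR hp hp1
  set P' := (1 + p')⁻¹ with hP'
  have h1p : 1 + p' ≠ 0 := hG.add_ne hp'1
  have hP'0 : P' ≠ 0 := inv_ne_zero h1p
  have hp' : p' = (1 + P') / P' := by
    rw [hP']; field_simp
    linear_combination -hG.two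
  have hP'1 : P' ≠ 1 := fun e => hp'0 (by rw [hp', e, div_one]; linear_combination hG.two)
  refine ⟨P', hP'0, hP'1, ?_, fun a ha => ?_⟩
  · have hφP : φ P ≠ 0 := (map_ne_zero φ).2 hP
    have hφP' : φ P' ≠ 0 := (map_ne_zero φ).2 hP'0
    rw [hp'] at hpair
    simp only [nm, map_div₀] at hpair
    unfold Pair
    field_simp at hpair
    linear_combination hpair
  · rw [hp', mu_step_eq hG hP, mu_step_eq hG hP'0] at hW
    have h := hR.scale (m := a * P / a₀) (div_ne_zero (mul_ne_zero ha hP) ha₀) hW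
    rw [hh_lp, hh_lp] at h
    convert h using 4
    · field_simp
    · field_simp

theorem slope_zero_or_one {P : F} (hP : P ≠ 0) (hP1 : P ≠ 1) :
    r * φ P + (r + 1) * P ≠ 0 := by
  intro h
  obtain ⟨P', hP'0, -, -, himg⟩ := label_image hG hR ha₀ hP hP1
  have h2 := himg a₀ ha₀
  rw [h, add_zero, ← hG.iv_lp, ← hR.image_z, hR.invol, Option.some.injEq] at h2
  have h3 := congrArg Prod.fst h2
  simp only [zed, lp] at h3
  exact div_ne_zero (pow_ne_zero 2 ha₀) (mul_ne_zero (mul_ne_zero hP hP'0) ha₀) h3.symm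

/-- Outside the trivial twist the slope of the fixed point is `0` or `1`. -/
theorem slope_cases (hfix : ∀ x : F, φ x = x → x = 0 ∨ x = 1) : r = 0 ∨ r = 1 := by
  by_contra hne
  push Not at hne
  obtain ⟨hr0, hr1⟩ := hne
  have hinj : Function.Injective (fun x : Fˣ => Units.map (φ : F →* F) x / x) := by
    intro x y e
    rw [div_eq_div_iff_mul_eq_mul] at e
    have e' : φ (x : F) * y = φ (y : F) * x := congrArg Units.val e
    have hx := x.ne_zero
    have hy := y.ne_zero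
    rcases hfix ((x : F) / y) (by
      rw [map_div₀, div_eq_div_iff ((map_ne_zero φ).2 hy) hy]; linear_combination e') with h | h
    · simp at h
    · exact Units.ext ((div_eq_one_iff_eq hy).1 h)
  have hr : 1 + r ≠ 0 := hG.add_ne hr1
  obtain ⟨P, hP⟩ := Finite.surjective_of_injective hinj (Units.mk0 ((1 + r) / r) (div_ne_zero hr hr0))
  have hP' : φ (P : F) / P = (1 + r) / r := by
    simpa [Units.val_div_eq_div_val] using congrArg Units.val hP
  rw [div_eq_div_iff P.ne_zero hr0] at hP'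
  refine slope_zero_or_one hG hR ha₀ P.ne_zero (fun e => ?_) ?_
  · rw [e, map_one] at hP'
    exact one_ne_zero (by linear_combination -hP' : (1 : F) = 0)
  · linear_combination hP' + (r + 1) * (P : F) * hG.two

variable (hr : ∀ x : F, (r + 1) * (φ x + x) = 0)
include hr

theorem label_image' {P : F} (hP : P ≠ 0) (hP1 : P ≠ 1) :
    ∃ P', P' ≠ 0 ∧ P' ≠ 1 ∧ Pair φ P P' ∧ ∀ a, a ≠ 0 →
      W (some (lp φ a (r + 1 + φ P))) = some (lp φ (a₀ ^ 2 / (P * P' * a)) (r + 1 + φ P')) := by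
  have e : ∀ x : F, r * φ x + (r + 1) * x = φ x := fun x => by
    linear_combination hr x - φ x * hG.two
  simpa only [e] using label_image hG hR ha₀ hP hP1

theorem fst_eq_one : a₀ = 1 := by
  by_contra ha1
  set N := nm φ a₀ with hN
  have hN0 : N ≠ 0 := nm_ne ha₀
  have hN1 : N ≠ 1 := hG.nm_ne_one ha1
  have hg : 1 + a₀ ≠ 0 := hG.add_ne ha1
  have hφg : 1 + φ a₀ ≠ 0 := hG.add_ne fun e => ha1 (φ.injective (by rw [e, map_one]))
  set P := φ.symm (1 + N⁻¹) with hPdef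
  have hφP : φ P = 1 + N⁻¹ := φ.apply_symm_apply _
  have hP0 : P ≠ 0 := fun e =>
    hG.add_ne (fun e' => hN1 (inv_eq_one.1 e')) (by rw [← hφP, e, map_zero])
  have hP1 : P ≠ 1 := fun e => by
    rw [e, map_one] at hφP
    exact inv_ne_zero hN0 (by linear_combination -hφP)
  obtain ⟨P', hP'0, -, -, himg⟩ := label_image' hG hR ha₀ hr hP0 hP1
  have h1 := hR.step hR.fixed
  have e1 : mu φ (lp φ a₀ r) (lp φ a₀ r) = (0, nm φ a₀) := by
    simp only [mu, lp, nm, Prod.mk.injEq]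
    exact ⟨hG.add_self _, by linear_combination r * φ a₀ * a₀ * hG.two⟩
  have e2 : mu φ zed (lp φ a₀ r) = lp φ a₀ (r + 1 + φ P) := by
    simp only [mu, zed, lp, hφP, map_zero, zero_add, zero_mul, add_zero, Prod.mk.injEq, true_and]
    rw [← hN]
    field_simp
    linear_combination -N * hG.two
  rw [e1, hR.image_center ha₀, e2, himg a₀ ha₀, Option.map_some, Option.some.injEq] at h1
  have h2 := congrArg (mu φ (iv φ (lp φ a₀ r))) h1
  rw [iv_mu_cancel, hG.iv_lp, hh_lp, inv_mul_cancel₀ ha₀] at h2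
  simp only [mu, lp, nm_one, mul_one, Prod.mk.injEq] at h2
  obtain ⟨hA, hB⟩ := h2
  have hA' : a₀ = (a₀ + 1) * (P * P') := by
    rw [hA]; field_simp
  rw [← hA] at hB
  have hB' : φ P' * ((1 + φ a₀) * (1 + a₀)) = φ a₀ := by
    simp only [nm, map_add, map_one] at hB
    linear_combination -hB + hr a₀ - (φ a₀ + a₀) * (r + 1) * hG.two
  have hA'' : φ a₀ = (φ a₀ + 1) * (φ P * φ P') := by
    simpa using congrArg φ hA'
  have h3 : φ P = 1 + a₀ := by
    refine mul_right_cancel₀ ((map_ne_zero φ).2 ha₀) ?_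
    linear_combination -(φ P) * hB' - (1 + a₀) * hA''
  have h4 : φ a₀ * a₀ * a₀ = 1 := by
    rw [hφP, hN] at h3
    have : (nm φ a₀)⁻¹ = a₀ := add_left_cancel h3
    rw [← nm] 
    conv_lhs => arg 2; rw [← this]
    exact mul_inv_cancel₀ (hN ▸ hN0)
  exact ha1 (hG.sq_fix a₀ h4)

end Slope

end CfsgLib.Recog.SzIso
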