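import Cfsg.Agent.Lib.Recog.SzIso.Core

/-!
The twist fixes only `0` and `1`.
-/

set_option autoImplicit false
set_option maxHeartbeats 1000000

namespace CfsgLib.Recog.SzIso

variable {F : Type*} [Field F] [Finite F] {φ : F ≃+* F} {W : Option (F × F) → Option (F × F)}
  (hG : Good φ) {a₀ r : F} (hR : Rel φ W (lp φ a₀ r)) (ha₀ : a₀ ≠ 0)

include hG hR ha₀

theorem slope_ker {P : F} (h : r * φ P + (r + 1) * P = 0) : P = 0 := by
  by_contra hP
  rcases eq_or_ne P 1 with rfl | hP1
  · rw [map_one] at h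
    exact one_ne_zero (by linear_combination h - r * hG.two : (1 : F) = 0)
  · exact slope_zero_or_one hG hR ha₀ hP hP1 h

theorem slope_inj {x y : F} (h : r * φ x + (r + 1) * x = r * φ y + (r + 1) * y) : x = y :=
  sub_eq_zero.1 (slope_ker hG hR ha₀ (by rw [map_sub]; linear_combination h))

theorem slope_surj (t : F) : ∃ x, r * φ x + (r + 1) * x = t :=
  Finite.surjective_of_injective (f := fun x => r * φ x + (r + 1) * x)
    (fun _ _ h => slope_inj hG hR ha₀ h) t

theorem fixed_eq {e : F} (he : φ e = e) (he0 : e ≠ 0) (he1 : e ≠ 1) (hne : 1 + a₀ * e ≠ 0) :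
    1 + e * (r * a₀ + (r + 1) * φ a₀) = φ a₀ * a₀ := by
  have two := hG.two
  have hφa : φ a₀ ≠ 0 := (map_ne_zero φ).2 ha₀
  have hd : 1 + φ a₀ * e ≠ 0 := by
    have := (map_ne_zero φ).2 hne
    rwa [map_add, map_one, map_mul, he] at this
  have hp : 1 + e * e ≠ 0 := hG.add_ne fun h =>
    he1 (hG.nm_inj e 1 (by rw [he, map_one, one_mul]; exact h))
  have hφP : φ (1 + e * e) = 1 + e * e := by rw [map_add, map_one, map_mul, he]
  have hP1 : (1 + e * e : F) ≠ 1 := by simp [he0]
  obtain ⟨P', hP'0, hP'1, hpair, himg⟩ := label_image hG hR ha₀ hp hP1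
  have hP' : (1 + e * e) * P' = 1 := by
    have h1 : φ (1 + P') * (1 + P') = φ (P' * (e * e)) * (P' * (e * e)) := by
      unfold Pair at hpair
      simp only [map_add, map_one, map_mul, he] at hpair ⊢
      linear_combination hpair + (2 + φ P' * 2 - φ P' * P' * (e ^ 2 + e ^ 4) + φ P' * e ^ 2 +
        P' * 2 + P' * e ^ 2 + e ^ 2) * two
    have h2 := hG.nm_inj _ _ h1
    linear_combination -h2 + P' * two
  have hLE : ∀ x, φ x = x → r * φ x + (r + 1) * x = x := fun x hx => by
    rw [hx]; linear_combination r * x * two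
  have hφP' : φ P' = P' := by
    have h := congrArg φ hP'
    rw [map_mul, map_one, hφP] at h
    exact mul_left_cancel₀ hp (h.trans hP'.symm)
  have hv := hR.scale (m := a₀ * e) (mul_ne_zero ha₀ he0) hR.fixed
  rw [hh_lp, hh_lp, show (a₀ * e)⁻¹ * a₀ = e⁻¹ by field_simp] at hv
  have h1 := hR.step hv
  have e1 : mu φ zed (lp φ e⁻¹ r) = lp φ e⁻¹ (r + 1 + (1 + e * e)) := by
    simp only [mu, zed, lp, nm, map_zero, zero_add, zero_mul, add_zero, map_inv₀, he,
      Prod.mk.injEq, true_and]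
    field_simp
    linear_combination -two
  have himg' := himg e⁻¹ (inv_ne_zero he0)
  rw [hLE _ hφP, hLE _ hφP'] at himg'
  set g := a₀ * (1 + a₀ * e) with hg
  have hg0 : g ≠ 0 := mul_ne_zero ha₀ hne
  set Nd := (1 + φ a₀ * e) * (1 + a₀ * e) with hNd
  have hNd0 : Nd ≠ 0 := mul_ne_zero hd hne
  set K := r * a₀ + (r + 1) * φ a₀ with hK
  set T := (1 + e * K + φ a₀ * a₀ * (e * e)) / Nd with hT
  have e2 : mu φ (lp φ a₀ r) (lp φ (a₀ * e * a₀) r) = lp φ g (r + 1 + T) := by
    simp only [mu, lp, nm, hg, hT, hNd, hK, map_add, map_one, map_mul, he, Prod.mk.injEq]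
    refine ⟨by ring, ?_⟩
    field_simp
    linear_combination (norm := (ring_nf; simp [two])) (0 : F) * two
  rw [e1, himg', e2, Option.map_some] at h1
  have hga : a₀ + a₀ ^ 2 / ((1 + e * e) * P' * e⁻¹) = g := by
    rw [hP', hg]; field_simp
  have hT0 : T ≠ 0 := fun h => by
    have hz : W (some (lp φ g (r + 1 + T))) = some (hh φ (g / a₀)⁻¹ zed) := by
      have hiv : W (some (iv φ (lp φ a₀ r))) = some zed := by rw [← hR.image_z, hR.invol]
      have := hR.scale (m := g / a₀) (div_ne_zero hg0 ha₀) hiv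
      rwa [hG.iv_lp, hh_lp, div_mul_cancel₀ _ ha₀, show r + 1 = r + 1 + T by rw [h, add_zero]] at this
    rw [hz, Option.some.injEq] at h1
    have := congrArg Prod.fst h1
    simp only [hh, zed, mu, lp, mul_zero] at this
    rw [hga] at this
    exact hg0 this.symm
  have hLa : r * φ a₀ + (r + 1) * a₀ ≠ 0 := fun h => ha₀ (slope_ker hG hR ha₀ h)
  have hT1 : T ≠ 1 := fun h => by
    rw [hT, div_eq_one_iff_eq hNd0, hNd] at h
    refine mul_ne_zero he0 hLa ?_
    linear_combination h + (e * a₀) * two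
  obtain ⟨PX, hPX⟩ := slope_surj hG hR ha₀ T
  have hPX0 : PX ≠ 0 := fun h => hT0 (by rw [← hPX, h, map_zero, mul_zero, mul_zero, add_zero])
  have hPX1 : PX ≠ 1 := fun h => hT1 (by
    rw [← hPX, h, map_one]; linear_combination r * two)
  obtain ⟨PX', hPX'0, -, -, himgX⟩ := label_image hG hR ha₀ hPX0 hPX1
  have hX := himgX g hg0
  rw [hPX] at hX
  rw [hX, Option.some.injEq] at h1
  simp only [mu, lp, Prod.mk.injEq] at h1
  rw [hga] at h1
  obtain ⟨hI, hII⟩ := h1
  rw [hI] at hII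
  set w := (1 + a₀ * e)⁻¹ with hw
  have hprod : PX * PX' = w * w := by
    rw [hg] at hI
    rw [hw]
    field_simp at hI ⊢
    linear_combination -hI
  have hLw : r * φ w + (r + 1) * w = (1 + e * K) / Nd := by
    have hwv : w * (1 + a₀ * e) = 1 := inv_mul_cancel₀ hne
    have hwφ : φ w * (1 + φ a₀ * e) = 1 := by
      have h := congrArg φ hwv
      rwa [map_mul, map_add, map_one, map_mul, he] at h
    rw [eq_div_iff hNd0, hNd, hK]
    linear_combination (r * (1 + a₀ * e)) * hwφ + ((r + 1) * (1 + φ a₀ * e)) * hwv + r * two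
  have hLX' : r * φ PX' + (r + 1) * PX' = T + φ a₀ * a₀ * (e * e) * (e * e) / (Nd * (1 + e * e)) := by
    have hPv : P' = (1 + e * e)⁻¹ := eq_inv_of_mul_eq_one_right hP'
    rw [hP', hPv] at hII
    simp only [nm, hg, map_mul, map_add, map_one, map_div₀, map_inv₀, map_pow, he] at hII
    field_simp at hII
    have hY : (1 : F) / (1 + e ^ 2) = P' := by rw [hPv, one_div, pow_two]
    have hC : φ a₀ * a₀ * (e * e) * (e * e) / (Nd * (1 + e * e)) =
        φ a₀ * a₀ * (e * e) * (e * e) * P' / Nd := by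
      rw [hPv, div_mul_eq_div_div, div_eq_mul_inv _ (1 + e * e), div_mul_eq_mul_div]
    rw [hY] at hII
    rw [hT, hC, ← add_div, eq_div_iff hNd0, hNd, hK]
    linear_combination hII - φ a₀ * a₀ * (e * e) * hP' + (-1 - e * r * a₀ - (r + 1) * φ a₀ * e -
      φ a₀ * a₀ * (e * e) + φ a₀ * a₀ * (e * e) * P') * two
  have hsum : (PX' + w) * (1 + e * e) = PX + w := by
    refine slope_inj hG hR ha₀ ?_
    rw [map_mul, hφP, map_add, map_add]
    rw [hT] at hPX hLX'
    have h3 : φ a₀ * a₀ * (e * e) * (e * e) / (Nd * (1 + e * e)) * (1 + e * e) =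
        φ a₀ * a₀ * (e * e) * (e * e) / Nd := by
      rw [div_mul_eq_mul_div, mul_div_mul_right _ _ hp]
    linear_combination (1 + e * e) * hLX' - hPX + (1 + e * e - 1) * hLw + h3 +
      ((e * e) * (1 + e * K) / Nd + (φ a₀ * a₀ * (e * e) * (e * e)) / Nd) * two
  have hX0 : PX + w = e * e * w := by
    have h4 : (PX + w) * ((PX + w) + e * e * w) = 0 := by
      linear_combination (1 + e * e) * hprod - PX * hsum +
        (PX * w + (1 + e * e) * (w * w) + PX * (e * e) * w) * two
    refine hG.eq_of_add ((mul_eq_zero.1 h4).resolve_left fun h => ?_)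
    have : r * φ (PX + w) + (r + 1) * (PX + w) = 0 := by rw [h, map_zero]; ring
    rw [map_add] at this
    rw [hT] at hPX
    refine mul_ne_zero (mul_ne_zero hφa ha₀) (mul_ne_zero he0 he0) ((div_eq_zero_iff.1
      (?_ : φ a₀ * a₀ * (e * e) / Nd = 0)).resolve_right hNd0)
    linear_combination this - hPX - hLw - ((1 + e * K) / Nd) * two
  have hfin := congrArg (fun x => r * φ x + (r + 1) * x) hX0
  simp only [map_add, map_mul, he] at hfin
  rw [hT] at hPX
  have h5 : e * e * ((1 + e * K) / Nd) = φ a₀ * a₀ * (e * e) / Nd := by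
    linear_combination -hfin + hPX + (1 - e * e) * hLw + ((1 + e * K) / Nd) * two
  field_simp at h5
  linear_combination h5

/-- The twist fixes only `0` and `1`. -/
theorem fixed_trivial (e : F) (he : φ e = e) : e = 0 ∨ e = 1 := by
  by_contra hne
  push Not at hne
  obtain ⟨he0, he1⟩ := hne
  have two := hG.two
  have h1e : e + 1 ≠ 0 := fun h => he1 (hG.eq_of_add h)
  have hne3 : e * e + e + 1 ≠ 0 := fun h => he1 (hG.cube e (by linear_combination (e - 1) * h))
  have key : ∀ x y : F, φ x = x → φ y = y → x ≠ 0 → y ≠ 0 → x ≠ 1 → y ≠ 1 → x ≠ y →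
      1 + a₀ * x ≠ 0 → 1 + a₀ * y ≠ 0 → False := by
    intro x y hx hy hx0 hy0 hx1 hy1 hxy hnx hny
    have ex := fixed_eq hG hR ha₀ hx hx0 hx1 hnx
    have ey := fixed_eq hG hR ha₀ hy hy0 hy1 hny
    have hK : r * a₀ + (r + 1) * φ a₀ = 0 := (mul_eq_zero.1 (show (x - y) * _ = 0 by
      linear_combination ex - ey)).resolve_left (sub_ne_zero.2 hxy)
    have ha1 : a₀ = 1 := hG.nm_inj a₀ 1 (by
      rw [map_one, one_mul]; linear_combination -ex + x * hK)
    rw [ha1, map_one] at hK
    exact one_ne_zero (by linear_combination hK - r * two : (1 : F) = 0)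
  have hφ1 : φ (e + 1) = e + 1 := by rw [map_add, he, map_one]
  have hφi : φ e⁻¹ = e⁻¹ := by rw [map_inv₀, he]
  have d1 : e + 1 ≠ 1 := by simp [he0]
  have d2 : e⁻¹ ≠ 1 := by simp [he1]
  have d3 : e ≠ e + 1 := by simp
  have d4 : e + 1 ≠ e⁻¹ := fun h => hne3 (by
    field_simp at h; linear_combination h + two)
  have d5 : e ≠ e⁻¹ := fun h => he1 (hG.nm_inj e 1 (by
    rw [he, map_one, one_mul]; field_simp at h; linear_combination h))
  have hinj : ∀ {x y : F}, 1 + a₀ * x = 0 → 1 + a₀ * y = 0 → x = y := fun {x y} hx hy =>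
    mul_left_cancel₀ ha₀ (by linear_combination hx - hy)
  by_cases hb : 1 + a₀ * e = 0
  · exact key _ _ hφ1 hφi h1e (inv_ne_zero he0) d1 d2 d4 (fun h => d3 (hinj hb h))
      (fun h => d5 (hinj hb h))
  by_cases hb' : 1 + a₀ * (e + 1) = 0
  · exact key _ _ he hφi he0 (inv_ne_zero he0) he1 d2 d5 hb (fun h => d4 (hinj hb' h))
  exact key _ _ he hφ1 he0 h1e he1 d1 d3 hb hb'

end CfsgLib.Recog.SzIso
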