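import Cfsg.Agent.Lib.Recog.SzIso.Plane

/-!
The permutation group generated by translations, torus and swapping map; inversion of the twist.
-/

set_option autoImplicit false

namespace CfsgLib.Recog.SzIso

variable {F : Type*} [Field F] (φ : F ≃+* F)

/-- Left translation of the plane. -/
def trP (x : F × F) : Equiv.Perm (F × F) where
  toFun := mu φ x
  invFun := mu φ (iv φ x)
  left_inv := iv_mu_cancel x
  right_inv := mu_iv_cancel x

/-- The torus permutation of the plane. -/
def scP (m : Fˣ) : Equiv.Perm (F × F) where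
  toFun := hh φ m
  invFun := hh φ ((m⁻¹ : Fˣ) : F)
  left_inv x := by simp [hh_hh, hh_one]
  right_inv x := by simp [hh_hh, hh_one]

/-- Translation of the completed plane. -/
def trO (x : F × F) : Equiv.Perm (Option (F × F)) := Equiv.optionCongr (trP φ x)

/-- Torus permutation of the completed plane. -/
def scO (m : Fˣ) : Equiv.Perm (Option (F × F)) := Equiv.optionCongr (scP φ m)

theorem trO_apply (x : F × F) (p : Option (F × F)) : trO φ x p = p.map (mu φ x) := rfl

theorem scO_apply (m : Fˣ) (p : Option (F × F)) : scO φ m p = p.map (hh φ m) := rfl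

/-- The generators. -/
def gens (W : Equiv.Perm (Option (F × F))) : Set (Equiv.Perm (Option (F × F))) :=
  Set.range (trO φ) ∪ Set.range (scO φ) ∪ {W}

/-- The generated group. -/
def Gen (W : Equiv.Perm (Option (F × F))) : Subgroup (Equiv.Perm (Option (F × F))) :=
  Subgroup.closure (gens φ W)

/-- The coordinate change inverting the twist. -/
def flipE (hneg : ∀ x : F, -x = x) : Equiv.Perm (F × F) where
  toFun x := (φ x.1, x.2 + nm φ x.1)
  invFun x := (φ.symm x.1, x.2 + nm φ.symm x.1)
  left_inv x := by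
    have e : nm φ.symm (φ x.1) = nm φ x.1 := by simp [nm, mul_comm]
    refine Prod.ext (by simp) ?_
    show x.2 + nm φ x.1 + nm φ.symm (φ x.1) = x.2
    rw [e]; linear_combination -(hneg (nm φ x.1))
  right_inv x := by
    have e : nm φ (φ.symm x.1) = nm φ.symm x.1 := by simp [nm, mul_comm]
    refine Prod.ext (by simp) ?_
    show x.2 + nm φ.symm x.1 + nm φ (φ.symm x.1) = x.2
    rw [e]; linear_combination -(hneg (nm φ.symm x.1))

variable {φ} (hneg : ∀ x : F, -x = x)
include hneg

theorem flip_mu (x y : F × F) :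
    flipE φ hneg (mu φ x y) = mu φ.symm (flipE φ hneg x) (flipE φ hneg y) := by
  simp only [flipE, mu, nm, Equiv.coe_fn_mk, map_add, RingEquiv.symm_apply_apply, Prod.mk.injEq,
    true_and]
  linear_combination -(hneg (φ x.1 * y.1))

theorem flip_hh (m : F) (x : F × F) :
    flipE φ hneg (hh φ m x) = hh φ.symm (φ m) (flipE φ hneg x) := by
  simp only [flipE, hh, nm, Equiv.coe_fn_mk, map_mul, RingEquiv.symm_apply_apply, Prod.mk.injEq,
    true_and]
  ring

theorem flip_zed : flipE φ hneg zed = (zed : F × F) := by simp [flipE, zed, nm]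

theorem flip_zero : flipE φ hneg 0 = (0 : F × F) := by simp [flipE, nm]

theorem flip_iv (x : F × F) : flipE φ hneg (iv φ x) = iv φ.symm (flipE φ hneg x) := by
  have h := flip_mu (φ := φ) hneg (iv φ x) x
  rw [iv_mu, flip_zero hneg] at h
  have := congrArg (fun t => mu φ.symm t (iv φ.symm (flipE φ hneg x))) h
  simp only [mu_assoc, mu_iv, mu_zero, zero_mu] at this
  exact this.symm

theorem flip_lp (a r : F) : flipE φ hneg (lp φ a r) = lp φ.symm (φ a) (r + 1) := by
  simp [flipE, lp, nm]; ring

/-- The transported swapping map. -/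
def flipW (W : Equiv.Perm (Option (F × F))) : Equiv.Perm (Option (F × F)) :=
  (Equiv.optionCongr (flipE φ hneg)).permCongr W

theorem rel_flip {W : Equiv.Perm (Option (F × F))} {u : F × F} (h : Rel φ W u) :
    Rel φ.symm (flipW (φ := φ) hneg W) (flipE φ hneg u) := by
  set T := Equiv.optionCongr (flipE φ hneg) with hT
  have hW : ∀ q, flipW (φ := φ) hneg W (T q) = T (W q) := fun q => by
    show T (W (T.symm (T q))) = _
    rw [T.symm_apply_apply]
  have hTm : ∀ (f g : F × F → F × F), (∀ x, flipE φ hneg (f x) = g (flipE φ hneg x)) →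
      ∀ q, T (q.map f) = (T q).map g := fun f g hfg q => by
    cases q <;> simp [hT, hfg]
  refine ⟨?_, fun p => ?_, fun m hm p => ?_, fun p => ?_⟩
  · have := hW none
    simp only [h.swap] at this
    simpa [hT, flip_zero hneg] using this
  · obtain ⟨q, rfl⟩ := T.surjective p
    rw [hW, hW, h.invol]
  · obtain ⟨q, rfl⟩ := T.surjective p
    obtain ⟨n, rfl⟩ := φ.surjective m
    have hn : n ≠ 0 := fun e => hm (by rw [e, map_zero])
    rw [hW, ← hTm _ _ (flip_hh hneg n), hW, h.torus n hn, ← map_inv₀]
    exact hTm _ _ (flip_hh hneg n⁻¹) _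
  · obtain ⟨q, rfl⟩ := T.surjective p
    have hz : ∀ x, flipE φ hneg (mu φ zed x) = mu φ.symm zed (flipE φ hneg x) := fun x => by
      rw [flip_mu hneg, flip_zed hneg]
    have hi : ∀ x, flipE φ hneg (mu φ (iv φ u) x) =
        mu φ.symm (iv φ.symm (flipE φ hneg u)) (flipE φ hneg x) := fun x => by
      rw [flip_mu hneg, flip_iv hneg]
    rw [hW, ← hTm _ _ hz, hW, h.braid, hTm _ _ hi, ← hW, ← hTm _ _ (flip_mu hneg u)]

theorem gen_flip (W : Equiv.Perm (Option (F × F))) :
    Nonempty (Gen φ W ≃* Gen φ.symm (flipW (φ := φ) hneg W)) := by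
  let T := Equiv.optionCongr (flipE φ hneg)
  let c : Equiv.Perm (Option (F × F)) ≃* Equiv.Perm (Option (F × F)) := T.permCongrHom
  have htr : ∀ x, c (trO φ x) = trO φ.symm (flipE φ hneg x) := fun x => by
    refine Equiv.ext fun p => ?_
    obtain ⟨q, rfl⟩ := T.surjective p
    show T (trO φ x (T.symm (T q))) = _
    rw [T.symm_apply_apply]
    cases q <;> simp [T, trO_apply, flip_mu hneg]
  have hsc : ∀ m : Fˣ, c (scO φ m) = scO φ.symm (Units.mapEquiv φ.toMulEquiv m) := fun m => by
    refine Equiv.ext fun p => ?_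
    obtain ⟨q, rfl⟩ := T.surjective p
    show T (scO φ m (T.symm (T q))) = _
    rw [T.symm_apply_apply]
    cases q <;> simp [T, scO_apply, flip_hh hneg]
  have himg : c '' gens φ W = gens φ.symm (flipW (φ := φ) hneg W) := by
    simp only [gens, Set.image_union, Set.image_singleton, ← Set.range_comp]
    congr 2
    · rw [show (c ∘ trO φ) = trO φ.symm ∘ flipE φ hneg from funext htr,
        (flipE φ hneg).surjective.range_comp]
    · rw [show (c ∘ scO φ) = scO φ.symm ∘ Units.mapEquiv φ.toMulEquiv from funext hsc,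
        (Units.mapEquiv φ.toMulEquiv).surjective.range_comp]
  refine ⟨(c.subgroupMap _).trans (MulEquiv.subgroupCongr ?_)⟩
  unfold Gen
  rw [← himg]
  exact MonoidHom.map_closure _ _

end CfsgLib.Recog.SzIso
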